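import Cfsg.Agent.TAB.F22.Cov
import Cfsg.Agent.TAB.F22.CovF
import Cfsg.Agent.MK.S7.Cov
import Cfsg.Agent.MK.T.A
import Cfsg.Agent.FastGrp
import Cfsg.Agent.Prune
set_option linter.all false

section
prune_inst 0x7ff6fffdcfa9bfffdfff7fbffed3dff833c4cffff6dffb4bffe9e9bfbf9f333739e56bad9de0daff9e76e2b690b87843fb7eefffec6fdc7ffffdfff41ffbee4ff5f7358951948c340fbc0fff03f167ce6f3ffffffffffffffffffffffffffffffffffbfeffff

-- part: MK/S7/X22D
section
prune_inst 0x900023056400020008040012c2007c83b3000092000b0001616404060c8c8c61a9412621f250061891d492e4787bc04811000139021000002000be00411b00a08ca76ae6b73cbf043f000fc0e983190c00000000000000000000000000000000004010000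
set_option linter.all false
open scoped Cfsg.Agent.FastGrp
private noncomputable def lq26408461af {T : Sort _} (f :
    type_of% (@_root_.List.cons.{0} (Int)) →
    type_of% (@_root_.List.cons.{0}) →
    type_of% (@_root_.List.cons.{0} (Prod Cfsg.Agent.TAB.Cov.Lev (List Int))) →
    type_of% (@_root_.List.nil.{0}) →
    type_of% (@_root_.Prod.mk.{0, 0}) → T) : T :=
  f (@_root_.List.cons.{0} (Int)) (@_root_.List.cons.{0}) (@_root_.List.cons.{0} (Prod Cfsg.Agent.TAB.Cov.Lev (List Int))) (@_root_.List.nil.{0}) (@_root_.Prod.mk.{0, 0})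

/-!
# MK, `3.Fi22` : the refined lattice of the pairings, data (helper16)
-/

set_option autoImplicit false
set_option maxRecDepth 100000
set_option maxHeartbeats 400000

namespace Cfsg.Agent.MK.S7.X22

open Cfsg.Agent.TAB.Eng Cfsg.Agent.TAB.Cov Cfsg.Agent.TAB.F22 Cfsg.Agent.TAB.F22.Cv

/-- the induced characters -/
def inds : List (ℕ × List ℤ) :=
  (beta% delta% lq26408461af fun a c _ e f =>
 (c (f 17 (let b:=(let b:=(let b:=(let b:=(a 0<|a 0<|a 0<|a 0<|e);
 (a 0<|a 0<|a 0<|a 0<|b));
 (a 0<|a 0<|a 0<|a 0<|a 0<|a 0<|a 0<|b));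
 (let b:=(let b:=(a 0<|a 0<|a 0<|a 0<|b);
 (a 0<|a 0<|a 0<|a 0<|b));
 (a 0<|a 0<|a 0<|a 0<|a 0<|a 0<|a 0<|b)));
 (let b:=(let b:=(let b:=(a 0<|a 0<|
 a 0<|a 0<|b);
 (a 0<|a 0<|a 0<|a 0<|b));
 (a 0<|a 0<|a 0<|a 2304<|a 0<|a 0<|a 0<|b));
 (let b:=(a 13063680<|a 0<|a 0<|a 0<|a 0<|a 0<|a 0<|b);
 (c 21520583884800<|c 589824<|c 0<|c 0<|c 0<|c 0<|c 0<|b)))))<|c (f 22
 (let b:=(let b:=(let b:=(let b:=(a 0<|a 0<|a 0<|a 0<|e);
 (a 0<|a 0<|a 0<|a 0<|b));
 (a 0<|a 0<|a 0<|a 0<|a 0<|a 0<|a 0<|b));
 (let b:=(let b:=(a 0<|a 0<|a 0<|a 0<|b);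
 (a 0<|a 0<|a 0<|a 0<|b));
 (a 0<|a 0<|a 0<|a 0<|a 0<|a 0<|a 0<|b)));
 (let b:=(let b:=(let b:=(a 0<|a 0<|a 0<|
 a 0<|b);
 (a 0<|a 4608<|a 0<|a 0<|b));
 (a 0<|a 0<|a 0<|a 0<|a 0<|a 0<|a 0<|b));
 (let b:=(a 13063680<|a 0<|a 0<|a 0<|a 0<|a 0<|a 0<|b);
 (c 21520583884800<|c 0<|c 17694720<|c 0<|c 0<|c 0<|c 0<|b)))))<|c (f 39 (let b:=(let b:=(let b:=(let b:=(a 0<|a 0<|a 0<|a 0<|e);
 (a 0<|a 0<|a 0<|a 0<|b));
 (a 0<|a 0<|a 0<|a 0<|a 0<|a 0<|a 0<|b));
 (let b:=(let b:=(a 0<|a 0<|a 0<|a 0<|b);
 (a 0<|a 0<|a 0<|a 64<|b));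
 (a 0<|a 0<|a 0<|a 0<|a 0<|
 a 0<|a 0<|b)));
 (let b:=(let b:=(let b:=(a 0<|a 0<|a 0<|a 0<|b);
 (a 0<|a 2304<|a 0<|a 0<|b));
 (a 0<|a 0<|a 0<|a 0<|a 0<|a 0<|a 0<|b));
 (let b:=(a 6531840<|a 0<|a 0<|a 1024<|a 0<|a 0<|a 0<|b);
 (c 10760291942400<|
 c 0<|c 8847360<|c 0<|c 0<|c 0<|c 0<|b)))))<|c (f 40 (let b:=(let b:=(let b:=(let b:=(a 0<|a 0<|a 0<|a 0<|e);
 (a 0<|a 0<|a 0<|a 0<|b));
 (a 0<|a 0<|a 0<|a 0<|a 0<|a 0<|a 0<|b));
 (let b:=(let b:=(a 384<|a 0<|a 0<|a 0<|b);
 (a 0<|a 0<|
 a 0<|a 0<|b));
 (a 0<|a 0<|a 0<|a 0<|a 0<|a 0<|a 0<|b)));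
 (let b:=(let b:=(let b:=(a 0<|a 0<|a 0<|a 0<|b);
 (a 0<|a 2304<|a 0<|a 0<|b));
 (a 0<|a 0<|a 0<|a 0<|a 0<|a 0<|a 0<|b));
 (let b:=(a 6531840<|a 0<|a 0<|a 0<|a 0<|a 36864<|a 0<|b);
 (c 10760291942400<|c 0<|c 8847360<|c 0<|
 c 0<|c 0<|c 0<|b)))))<|c (f 41 (let b:=(let b:=(let b:=(let b:=(a 0<|a 0<|a 0<|a 0<|e);
 (a 0<|a 0<|a 0<|a 0<|b));
 (a 0<|a 0<|a 0<|a 0<|a 0<|a 0<|a 0<|b));
 (let b:=(let b:=(a 0<|
 a 384<|a 0<|a 0<|b);
 (a 0<|a 0<|a 0<|a 0<|b));
 (a 0<|a 0<|a 0<|a 0<|a 0<|a 0<|a 0<|b)));
 (let b:=(let b:=(let b:=(a 0<|a 0<|a 0<|a 0<|b);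
 (a 0<|a 2304<|a 0<|a 0<|b));
 (a 0<|a 0<|a 0<|a 0<|a 0<|a 0<|a 0<|b));
 (let b:=(a 6531840<|a 0<|a 0<|a 0<|a 0<|a 36864<|a 0<|b);
 (c 10760291942400<|c 0<|c 8847360<|c 0<|c 0<|c 0<|c 0<|
 b)))))<|c (f 44 (let b:=(let b:=(let b:=(let b:=(a 0<|a 0<|a 0<|a 0<|e);
 (a 0<|a 0<|a 0<|a 0<|b));
 (a 192<|
 a 0<|a 0<|a 0<|a 0<|a 0<|a 0<|b));
 (let b:=(let b:=(a 0<|a 0<|a 0<|a 0<|b);
 (a 0<|a 0<|a 0<|a 0<|b));
 (a 0<|a 0<|a 0<|a 0<|a 0<|a 0<|a 0<|b)));
 (let b:=(let b:=(let b:=(a 0<|a 0<|a 0<|a 0<|b);
 (a 0<|a 2304<|a 0<|a 0<|b));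
 (a 0<|a 0<|a 0<|a 0<|a 0<|a 0<|a 0<|b));
 (let b:=(a 6531840<|a 0<|
 a 0<|a 0<|a 15360<|a 0<|a 0<|b);
 (c 10760291942400<|c 0<|c 8847360<|c 0<|c 0<|c 0<|c 0<|b)))))<|c (f 56 (let b:=(let b:=(let b:=(let b:=(a 0<|a 32<|a 0<|a 0<|e);
 (a 0<|a 0<|a 0<|a 0<|b));
 (a 0<|a 0<|a 0<|a 0<|a 0<|
 a 0<|a 0<|b));
 (let b:=(let b:=(a 192<|a 0<|a 0<|a 0<|b);
 (a 0<|a 0<|a 0<|a 0<|b));
 (a 0<|a 0<|a 0<|a 0<|a 0<|a 0<|a 0<|b)));
 (let b:=(let b:=(let b:=(a 0<|a 0<|a 0<|a 128<|b);
 (a 0<|a 1152<|a 0<|a 0<|b));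
 (a 0<|a 0<|a 0<|a 0<|a 0<|a 0<|a 0<|b));
 (let b:=(a 3265920<|a 0<|a 0<|a 0<|a 0<|a 18432<|
 a 0<|b);
 (c 5380145971200<|c 0<|c 4423680<|c 0<|c 0<|c 0<|c 0<|b)))))<|c (f 57 (let b:=(let b:=(let b:=(let b:=(a 0<|a 0<|a 32<|a 0<|e);
 (a 0<|
 a 0<|a 0<|a 0<|b));
 (a 0<|a 0<|a 0<|a 0<|a 0<|a 0<|a 0<|b));
 (let b:=(let b:=(a 192<|a 0<|a 0<|a 0<|b);
 (a 0<|a 0<|a 0<|a 0<|b));
 (a 128<|a 0<|a 0<|a 0<|a 0<|a 0<|a 0<|b)));
 (let b:=(let b:=(let b:=(a 0<|a 0<|a 0<|a 0<|b);
 (a 0<|a 1152<|a 0<|a 0<|b));
 (a 0<|a 0<|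
 a 0<|a 0<|a 0<|a 0<|a 0<|b));
 (let b:=(a 3265920<|a 0<|a 0<|a 0<|a 0<|a 18432<|a 0<|b);
 (c 5380145971200<|c 0<|c 4423680<|c 0<|c 0<|c 0<|c 0<|b)))))<|e))

/-- a level -/
def m1 : Lev × List ℤ :=
  (⟨Pk.unp 3582307 1791153 59
    248070604164638887727916167391738133532678652546232050838046559254840412306236018337034823365691338803083206238039299122774649425021380456773980341821574182887741395968532707401360512602801549895602526194984503544230181830263639980056203048880168094108126183952646132411151754109824317222848154221285444573992329403162407018546790139227269796079914802757038052658682354506728078950960957, [1], 16,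
  15494820397056000⟩, Pk.unp 3 1 47
    13294407179478751643894)

/-- a level -/
def m2 : Lev × List ℤ :=
  (⟨Pk.unp 2598157 1299078 59
    1459580537650517964441530853421443036786628061169340306371992137311032968286584449134453059661371914950491479188798632915037074080445391564220442084408393094103090479693605476714423857147899233056029197962274507192857050844221541603266840680829260714458597190336387389871353593891740793384304825642612089277908548118246773596256441679255390972785144851048592958148532370510604833, [2, 2], 15,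
  25179083145216000⟩, Pk.unp 3 1 47
    13294407179478751643899)

/-- a level -/
def m3 : Lev × List ℤ :=
  (⟨Pk.unp 433027 216513 59
    179206435562602983081382548413555957464198868912936399958400849746144580080193357776172152180781728073540587896280629223429311412129113618356511523644679448431257132285218782941333596727399995758982633938657988148725239652878471275320269720549304538640637960820362327557797939249589582067328962938708060201844926823125293795080674565, [1, 0, 0], 2,
  387370509926400⟩, Pk.unp 3 1 47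
    13294407179478751643896)

/-- a level -/
def m4 : Lev × List ℤ :=
  (⟨Pk.unp 3031183 1515591 59
    13004325044299042301258296210835284638159614952553304602642935764516648437199344368195666050375900150934716360495318695848119908061277196986476891641369607598622215044504793067103715013350396671249192228008284379076668036718146278911658696981642339140580510544815957444800851905496869256276100911593505293648283199437128971467590841397205849506413699878181498367692610769477273591386, Pk.unp 3 1 4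
    38,
  3, 774741019852800⟩, Pk.unp 341567 170783 47
    62340729010313074882741190248203533535721472635504627192050538199836887308088612893540370590944669400199196113818676576348744483368178277406974408887509732286952844007827176619785780192131718689166453836754738662844920454703746581251222931110973402820334486816)

/-- a level -/
def m5 : Lev × List ℤ :=
  (⟨Pk.unp 721711 360855 59
    2199904119640873691919274210008745285536981159575271913304166047986342430122526644299459198988264606289487265653585436018693492517816506584205455795606273377219218490360312171552471372296460693550157434960855502423587506856345466066533539267619004726556872167285876927310719315759132312775474590095564368799671335899393797085522769651640459050772, Pk.unp 3 1 5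
    116, 2, 258247006617600⟩, Pk.unp 2109 1054 47
    877306904794525014601324468735779949362294513612178335596897252341799455219160036757547483290139973775040305794886155280399916149845783044269397256304825705)

/-- a level -/
def m6 : Lev × List ℤ :=
  (⟨Pk.unp 984151 492075 59
    194811377614079475431634402430381501881731215521667070955977588551026768060367910848519934345703164202799764274602790429864066967022102928579715649022968399399799067947347694664570750011709817908250220545366365048399906166329690865609773158736506079015697512044524295128629569462222409181583571320996046497108930566416393829122285006877516528019251242606, Pk.unp 3 1 6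
    347,
  2, 258247006617600⟩, Pk.unp 341567 170783 47
    62340729010313074882741190248203533535721472635504627192050538199836887308088612893540370590944669400199196113818676576348744483368178277406974408887509732286952844007827176619785780192131718689166453836754738662844920454703746581251222931111013252764381018079)

/-- a level -/
def m7 : Lev × List ℤ :=
  (⟨Pk.unp 6180463 3090231 59
    23399680293061960860717548085339087883414457757991586525698102241977241188931889503318974755770915228755201480923108471085857402296926750206494434337619027072286937309718885589604326734157572633903360394092153525933582433807306269694329664943168661671707976421957902812025741115492533709870130446415964788503160870888847327521307744294116252670657995724284308682185046806706567223805699022143401965142, Pk.unp 3 1 7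
    1042, 2, 258247006617600⟩, Pk.unp 341569 170784 47
    62357869246240267532689241908054154472914880641931970264670804406534927596685832085599497402047183438556445815407864480308084652950633616337268252240712712313909822437080406651261037174175003524999431988932231712930281945232437583975982824819806083322935690941)

/-- a level -/
def m8 : Lev × List ℤ :=
  (⟨Pk.unp 8232355 4116177 59
    518669845853661857155670961928201150008720763091572820441055604717723717152077954140890554092539031238998013568994472198497091704870791710070638574359906086655677283907632749758219563845665110782328757974234171688412431128538704333322613188047010116160299460013304303452918437859984139666487794947301409795173441178715112069487907914600236585559602648681337444916874522876378588803792548327022407164992231199, Pk.unp 27 13 8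
    97959731845, 26, 161146132129382400⟩, Pk.unp 342451 171225 47
    63335518524543791997689403954958721526626719790339788074734738567111352075488816563267310148255680326075128337614780349245081470682050152112938991158302344546855224807655889185467690996722064926585497905056261215560286092749920942952366053023279828141010538440)

/-- a level -/
def m9 : Lev × List ℤ :=
  (⟨Pk.unp 908335 454167 59
    1719827816122155443371315356083585578144394316420501878162367054081673158484114503790946513743608906127837395509175946319938998855693516471750775798337749913226888051164317988286390805480134408087398659567315322043031307702264534317659950399203399231371098418848742219076503040311862410894821885674926553857549506555932520055298802158176016718565938904, Pk.unp 23 11 9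
    573790190092, 16, 53715377376460800⟩, Pk.unp 341675 170837 47
    63269063178895296339651707581295386541410254334361191705453060222124247634051274909693522650729932462925654047735469580724611633429929868763123990951052854381690124085412757610476748602769856630438107710067349032638147372416301867404431705370714679648863599490)

/-- a level -/
def m10 : Lev × List ℤ :=
  (⟨Pk.unp 2598157 1299078 59
    1459586155403939526410127984121602501498113362563990903838593517583730934966499117976125329619342743521045776676019156492013271577523173156307001283644870983143883446944079800760297845211839919988238728023368673522916465968609369961255208296027139739834445465183221772757879869952135812097808343541784955742997357201948547561454735336383758537618357439962461665228874966439125869, Pk.unp 37 18 10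
    1471707101259899, 39, 337399714145894400⟩, Pk.unp 3 1 47
    13294407179478751644127)

/-- a level -/
def m11 : Lev × List ℤ :=
  (⟨Pk.unp 481627 240813 59
    95258798682593168622340841216499353861234501492997726325056399800375836904455596574987990019084387954196672872033479698077552474842813040831456875293941982322509175464407364600462154034708198821596417254062165690147152831647584942212667573184225162682368194728663776568974790975757062412772121817619288411655596761681720544931915176548,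
  Pk.unp 167 83 11
    1459737438792733651684294, 134, 3936329998368768000⟩, Pk.unp 2085 1042 47
    483841479898541169501975504475267461289905088430484777778984078510712713329321985502653959218120079156011904107489254580428680170679589477824345342039552329)

/-- a level -/
def m12 : Lev × List ℤ :=
  (⟨Pk.unp 1078921 539460 59
    44193410915870508329913500320853999503847095368145050390968276229109430627469131238808211402305203192528599475215339895032387151459124493391373537669379219899445642222060692053655549796860158334278473702064310791180668136608615455876330247467516388118632762483785330462509474667653365982251301032511265596714954355520585736888079213084305805508637115190727, Pk.unp 71 35 12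
    10078242102899424112231, 52, 483438396388147200⟩, Pk.unp 2137 1068 47
    1633025906672467637413931725082394349488375761427648171263211334740359396416809951973976091542322775849496379270978659488611529596546753753122000338639744143)

/-- a level -/
def m13 : Lev × List ℤ :=
  (⟨Pk.unp 1945945 972972 59
    57236682954836712552223372258162034682093441194263284130290047952102386827633087581935164488364880065642682558775252930920268990714650173075752976793908808309467791365578576247256961464425657814999651013991507167945103408701245649364838095168710141082094663770947005057624586019018623705985459240359000957908955793255067699145291887733546707972958923902324757862962566654, Pk.unp 3375 1687 13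
    4087782445532996787658831703715431312842986792, 2520, 985284639407996928000⟩, Pk.unp 342357 171178 47
    62516821951324335861881782657705569969313677816144218918021658001498020173812230303859992965318254939440823394869053127959249898761723666849075135385973680657612362335605710408380398554560313064291890458469101787204570127113880284423589869802121550592874215021)

/-- a level -/
def m14 : Lev × List ℤ :=
  (⟨Pk.unp 1945945 972972 59
    57236329996299226675180961271279981059876503300599392510038937348270808695963120538025995260558111815096401982560318669142085500654473096098447285358605246938441510267413485471180766643195947916115190325958739105596658851539624307638601365038305730097325938349307628219711171532155682759924547763506333856297817799472669050398045793290719168890948767599430383671270847904, Pk.unp 1023 511 14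
    649762692707025382317963378445366017656704, 757, 91881702484475904000⟩, Pk.unp 342507 171253 47
    63824715082955099705839218428456273960935572812470872654722141962367695267325259721629784726327530822743012156503640143733263080576315545243504388089783172979960938102835837821708672281497399843011350144715682870278774864039880448317437110245295604993629086291)

/-- a level -/
def m15 : Lev × List ℤ :=
  (⟨Pk.unp 2881009 1440504 59
    648787222358780008714806786386457051446099872747618388518496892358164324011647391773012956903676701069129898156816112035495853191356545235374373102409656546013929213220460446707280992153128177060638800603771732564805754012545682419649150332831879299517782423311394438868059234761151162054590386496395515023143390099334614603155444544500479328150743226177598680986514707808868537054, Pk.unp 1319 659 15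
    24284262149898649607210836059850024120917955394, 940, 128901410883108864000⟩, Pk.unp 342467 171233 47
    70516739661057541922912225982278711200089958983331003353486505958351089344972759091979044602596416481619543311377214692130089830729530829124900461812501670370811065371540980280027935404301687011493724216742834562907044062755225532333568101745918766575588136205)

/-- a level -/
def m16 : Lev × List ℤ :=
  (⟨Pk.unp 5022163 2511081 59
    112597207737766657293083836930473020547163287674652429857668260026635180108453244548722049284735737061422365876766406793759723195398935248433422283521247245116804884726873543734795498445799180076649254419042542307615203669219250044951178151345548982040098631816685361556402392305100686852388940172234285896306548513064748016528576467032074617104707885532581261231764533023846587604649445137134806,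
  Pk.unp 715 357 16
    4632804454847352667511251999604824106022022185, 472, 34495602155952537600⟩,
  Pk.unp 340807 170403 47
    50476467727607537115070390484200911854279502468480417583966733152544408980087057781800302892086153007228061811419045921377053214432722931197964150650742390130874154128215494407684246600281472554508546022902670893922770905121596863592288674890092795392390736222)

/-- a level -/
def m17 : Lev × List ℤ :=
  (⟨Pk.unp 2659231 1329615 59
    5748821376301981306290672453067407377334693650759006364980183908373736284057558860091751441969927460404167712945413126697246945858270954486954365994071866521458273586416261512696414438267653325220027395156648856038933473241383210447623147011067398125671354293237879333342713546530413063390547940163601219055765569370854167303594237274191623800336972246582666525812646701329470285, Pk.unp 6729 3364 17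
    37392858254526691838414606925277174795411370495362886719530863227, 6792,
  7172161892323216588800⟩, Pk.unp 2093 1046 47
    573628325120294855625668348594889779777232407911910732605532531440433315980776691998760028436899927539569796665572483403004894562768041889278209461653712966)

/-- a level -/
def m18 : Lev × List ℤ :=
  (⟨Pk.unp 2877445 1438722 59
    603094193139294731051416914971336640236009629846433123834523072914080669274826050601305536559950409698776988126159538986211478870449034964256302659918651692363889181398478300002424682183055130031201146709456832784956976277166086733585981595217555560925360717890053062608445928101964147209832613896599834159396792310951693538398207433813043650438867347966867811713976458292546005309, Pk.unp 11 5 18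
    4975276745260691871, 8, 7747410198528000⟩, Pk.unp 342365 171182 47
    62587916030959858027648450465616809206781895357788873959094743624586937883677426333980980471775038299349282222632142123995825594798767534588589294898162079048291817140619234016971593507133245980349960752827588158598765542718805443230419588712968147691113600329)

/-- a level -/
def m19 : Lev × List ℤ :=
  (⟨Pk.unp 2311741 1155870 59
    1483816625830460059220521454136255621856334500541411993384638615808991620122491561502447921072801773540190528435807348179525460802259947204860361249319109330592687628174384377345737044207644073056672329658549422641563600632323276063809898300477918701612969704667589051689361510582996033788783571062060356786936935109747926385322746971720982442628015280456931025519898080254395, Pk.unp 11141 5570 19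
    37875011922391040185544519151302010136577192214804715037929592564565681673585, 8178,
  7785681630167708467200⟩, Pk.unp 340727 170363 47
    49916963039951817996824113374678664574099604186414939094929413481829163767582614972785891941957822739302333926772773959518318707609670025286846394541970763002406446596977746112533986786327782541412058921303471337679107159083235032616179392367069172703598015495)

/-- a level -/
def m20 : Lev × List ℤ :=
  (⟨Pk.unp 2904175 1452087 59
    1040672016695274302353555340989386468230252109716538833562151298164335235352419976187261122879962457389318847755534951157642448543280593154816737567681977455791500122817839084521705586548000874483672838148820029916083803960612147120040969152588416219485871678266871796236821477972071762715484814327516662874854151181044028582919290966872350929928136751940820402357658815994945861675, Pk.unp 478961 239480 20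
    372968389810259868765556127812269027066487311175429145228673985210485655149435182893326672928852845799128276181621, 442380, 25028881500567310958592000⟩, Pk.unp 2017 1008 47
    100282501078037345456579926070994484706875586099586877869528759125520527349340941433823064125381512237627170314253609316902508155262222418147896815181367896)

/-- a level -/
def m21 : Lev × List ℤ :=
  (⟨Pk.unp 7851979 3925989 59
    31822810248718065231849899286759203637311087386704507011055293331817193917832943418273183961908166200776586634653341769412043779013509050848280162259955764344428229211826904927441824925906807609573290839661722802574209516907497225004404454630334057520954386932177412020472951809366532209426498359111679682130156399749445469469602843139397145671640380103498286957189353288829549792063941354075630920854010504, Pk.unp 1899489 949744 21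
    237665550547522389618405923510679947884749039002755615979428385387216772403970034597800265407154899355292996422739766269257994685785, 876336, 95881018097236331357798400⟩, Pk.unp 342371 171185 47
    69599256149151207753983843698281971586064578910372727650372450778766336490833619396568855464903883737431070592059268717605279275969106692050845063668570504663271276827994535471235948363634436978158829747325212547873112386826512074380845164097583640944782606289)

/-- a level -/
def m22 : Lev × List ℤ :=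
  (⟨Pk.unp 1630045 815022 59
    1654804072535742389616179887256393542388524928929617926507257880152360244355654322650207621625325264081979210737426632744832327710621330452071371193311465497227306118905534266874790503009187304953689003170547185515906912290695847126721882581082880906660047539918088740343375090059801771425307661247073706587320269729513401859980352667393281948750293039255196293482610,
  Pk.unp 716403 358201 22
    357775257542100701849679296024452501478142552329597279752032702975361895637538481088985619539525797768724542279713779490511164329, 423669, 19652339501752173369753600⟩, Pk.unp 340797 170398 47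
    50404945556363633597872925003216492386625888325826535124923945032497162068829945395070650648931165440677054365416212959713591833002315485812393747420265294805251229398537509793585079954391224677354350209652668579657504829402721470884681684576952088948997756916)

/-- a level -/
def m23 : Lev × List ℤ :=
  (⟨Pk.unp 8112961 4056480 59
    219055320298980016367144735241594772882934369107066348410656271458854895711137079594983160312479602086027910612246408950714286960496898869034336821399607887641549601442664729312305543615825877590610578287836472228628849797790715705901614458691705966890959354547092040847580179275903286107280682481933421573210359146274210770095629088225893769472321391104355964416279939993387097186261268560862860263443426727, Pk.unp 147189 73594 23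
    37480033359510196828268841937289294702017729183995591992318370699972887866576866007265797181082557169220659872602333261, 119746, 1424423409359206691635200⟩, Pk.unp 2109 1054 47
    824776124289498063138994080261179322046175727726403833930723746889628014063084627138125941345354616385581715621842110234944643288186219999396700274895188962)

/-- a level -/
def m24 : Lev × List ℤ :=
  (⟨Pk.unp 4381939 2190969 59
    36081362863325724354673504816051516841306327403979232900522936945397929201616433774507155530032630384422241893645582553141895891744564792401925835935158353649361348451238498338426265361433905622014256778199759716163674290783332584548753593968084891119814651884700448307494718453568401401950115681380571689018578256867915842552235060879236213410775784624468319693707612077544551876472714126625, Pk.unp 42859 21429 24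
    235626129393255192133049644297431620480628908865370622738550125578981437415179360185851335217630268865912163463, 20472, 39564012656194958131200⟩, Pk.unp 340837 170418 47
    56391099915980165211964724432161640174134990879479406565764162719269612537166180749746484787046300851311216004284951435581320802491755065459557083875980608291695386047362541557854004942736924343443275001111768337096218292250847352431022950315855243666431765742)

/-- a level -/
def m25 : Lev × List ℤ :=
  (⟨Pk.unp 10640323 5320161 59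
    1946723273872770522751053970794643762102211070553118207113264809870020623755282803935050821270249389185653591556664271983177562060950655783518414442944735716589962698743431545456394959807740241429260578886038402186873341860948174141847453272244583189378669613039861842802268951228122407006462674330371985795059716706905721621745852403470364490525835441406510404081588189786254226645689698265303161691968495566682031, Pk.unp 38017 19008 25
    3158246837574220465303420177254695872532943569875063180864237621040422962915585764170191863084904824877743841625621, 19956, 34253251285580277350400⟩, Pk.unp 340723 170361 47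
    55519155701961309126684184188172662732435139949498195387561233155369260095989581828356498012461253511203027844413586595604043851925862698574293775873690782640201037452188669907377674355961804955438068077892826953661886513369930872663682570789594588973072754684)

/-- a level -/
def m26 : Lev × List ℤ :=
  (⟨Pk.unp 3599155 1799577 59
    327191661352853284307142627225815786617833240478999343166848941516643777475216203670244559736313508700047055893134565702922078852244506696093502210900907585618692438211346895356287939899875751596851202576577787774201962468533331855913069300138970735666944031661290142425419902348576035327283767875569888595868467141230756135998112307814493390962846682628795733103682278676633250356197654, Pk.unp 13939 6969 26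
    416794452428245599252165260596050138428785457524549820083857405079638336971120826029126962992203040683806683, 8862, 7480239983090742067200⟩, Pk.unp 342409 171204 47
    62966372599553066493721594634409043272331026152108269333827458707093984314709295745053989987460980072049926039780719640264126498551715754832237837547529823630714126866147300031233334919223092109137506612389863474719788004389602934345158735102161986345899127988)

/-- a level -/
def m27 : Lev × List ℤ :=
  (⟨Pk.unp 5185621 2592810 59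
    745101740867145874655860648627315492832834616440892269042587993010105387079711985811428076019756691198865423509191362776295697534260859811631822107769757242556605105493930216999154739487459845558018950958462927388733853233867028886462772899726170815668260385621343509752541143031147465704096958245500076111562809367152330949008150796756570272117196325680813243748832302236738329688623661060370523, Pk.unp 15839 7919 27
    112773631881757658440914484829588010279560513729884916006897385668004342182477887443537209503568581018767844797015, 4358, 1732052859997991731200⟩, Pk.unp 342321 171160 47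
    69124790778350698627667217443679477530422463159150575179474822482703255158546251410284586008024727974997029222888394087652539187665527735764287760173465483008439709074120641898982468768034556710830440879525843871151602935970829519700402421673218459087756424098)

/-- a level -/
def m28 : Lev × List ℤ :=
  (⟨Pk.unp 1390069 695034 59
    137440235212723524278255536188550340266238291774016867781041351953170763838629844170159616366266459204422351959806535436183196641204642554390064962711058011832920676110180791209821231062410260993949099566423451946225243453031765385491693313340116450614350306240588480582994800008490346815868676842065259341057446672606237060095615444704757938492064109603436699187, Pk.unp 2939 1469 28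
    12870291532148468170121671265321416052062054198136936181780959474998155736662391681172247597653894, 1368, 171783326331961344000⟩, Pk.unp 2069 1034 47
    359236339905551273052780997873763307648777579893493776314821102111747029965773207439381480655642002796623713617893394803911679962894764286394704617466690852)

/-- a level -/
def m29 : Lev × List ℤ :=
  (⟨Pk.unp 6590323 3295161 59
    1033868249305033249570356489710532790084861427724314240323704893884300333633098493634574537349712713977996734623770849391969602878474932961917116141354678021331853092782416876512461758701438247882841837860315051000100576711608552332013465535092747968519328237672162129840368652031683648224779734776707312133768032680860163005867069808112408097657897467314290798031521463106175490973206027945091804686578, Pk.unp 12445 6222 29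
    71469636451346055009161628272299582730716659526053105955395867283576374830131726719319513692578825156327530633, 5835, 3172340769827733504000⟩, Pk.unp 2001 1000 47
    74633626724477634739129039469126127905322198678919990993831904291677047999243340829935994949523411546794744804590126322324232214371339537916413311390771111)

/-- a level -/
def m30 : Lev × List ℤ :=
  (⟨Pk.unp 911899 455949 59
    2166843932304572932742934745245622707432404302125690046742834682333741555463573806356854826792044601264152350313422373102721920591569148853228048785854188944042357372222661494295808690607349477703613719882636995372652352334269371552955559671542017354798236053811114951501262739114789156465480872026456175512861345471914699889178839714498371794929306655, Pk.unp 25807 12903 30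
    1457784003516020077364616913674005421861225282909979645085261927849393376544517253791091067990463056883326021320863161309131600567446, 8421, 6602383257718593945600⟩, Pk.unp 2089 1044 47
    523743936447495176819511175695430113325494627481660378772871256792755695412790144867961200515427026259443233539507304999263769005038032720245542706805541048)

/-- a level -/
def m31 : Lev × List ℤ :=
  (⟨Pk.unp 2174041 1087020 59
    39606501486343053446249487211531143589315401532085944396816072885937118093780155234958194582830333950467950144252976460129000132346688950912051723070803179074575201177403905141089371679879473080734365833566729393531244873566647016879288521019511783155800933956326327255595806363671184429871045323470603127208068341156872843306017984754927215672156660689208449231087622068297, Pk.unp 93 46 31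
    803323982380436694313038223758037365312718711241066089039438, 66, 409063258482278400⟩, Pk.unp 227 113 47
    310912922841326462517861929878806557388938880960421893522400726597171859126168432522708121350116024483096620504)

/-- a level -/
def m32 : Lev × List ℤ :=
  (⟨Pk.unp 1343629 671814 59
    18512030459074329112150628114363081488214790281688949732962385266516350761416215930701488657657066534996818066471850107505878069044384935507343829726618778893175162389105147702787155571595431244974302921583483028730334157247632224780798117472915906043311817964665223508844120021383516371497202622254568119466401839660228027324835366253700648901291017858717767552, Pk.unp 5793 2896 32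
    1748212422292928197738372279777168135944603349211167058054687840757581894407762701833113645351527938986874869627991067022, 2208, 536281931870266982400⟩, Pk.unp 342413 171206 47
    63003325108390815930361582129886025821574750589287331035599872306234101012697636622339258506300932031596503850335218102550665327933555997741471588109931977988258185846310770514071765320932163183633014192229780465601085225418696854331118074225510393251048250333)

/-- a level -/
def m33 : Lev × List ℤ :=
  (⟨Pk.unp 9572419 4786209 59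
    3795335918108582757777676588338564540609266980468714487187138132514839047715744444853659954774706378553604174952267573430354950271865909010727739432266512105604254308472512417967891517703214759234868865908789203067655558931451091123066850580205862132419972692775193484152163414783658364513592469415891063372266945649089487410612647041888666987535039183758091554421489274293580683661352934672828583336179705229588, Pk.unp 9 4 33
    11494894439263275855635011997107, 8,
  9296892238233600⟩, Pk.unp 342443 171221 47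
    70285875192622469751045166428863246069216366084352559506459649230651428165742844250415824319697333926277753955179059748206396716258737715948817707882141880245680271709020341888649995374032160456675688519466779900584718728886048022454268810355317159009431388391)

/-- a level -/
def m34 : Lev × List ℤ :=
  (⟨Pk.unp 5948695 2974347 59
    2453860474559999987413841586416333542138101169361486480012682152206183189016996968318982323090371773436930423387134046913343771175780167104332471173659620238852370074669508764941615613018833649667161522784847877850974930401073427757414145821593724787162760322849992887393242594402800007391988146271797697728994757076788810067611126247308808626372842720392383912531376305665089800410430000032753078144,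
  Pk.unp 1731 865 34
    9652279526204621253871970446929334572454889683114945207211316109834562750953769152050070209571295117973388301, 836, 80474673955169894400⟩, Pk.unp 342411 171205 47
    62984846211460931827416435950365342096206827365433262394506747968483593715146319696843283783107202104849519947588861741456344700729125362436429534306500734559023900311086272429576176119961043377339518170661521018585485318624250364041527267738388593364598273213)

/-- a level -/
def m35 : Lev × List ℤ :=
  (⟨Pk.unp 5027023 2513511 59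
    119209522565171516217497729308037210420454762180790907453176164348088774902894292277916900000033636965336579458735570637101679298983263501894166171543085763072723406708310125211856650294818834332566254868590798590957476777176000048046962303153446797159891899919712000348671284308604735567318316704952826023708123851797186510125269420807311846098849821910753794280579303051275624278488215141778353, Pk.unp 1439 719 35
    233714655342593650889793896486089605491224776659434052608729208249517026731368346614192052769801057824796341427, 497, 25990624363511808000⟩, Pk.unp 342341 171170 47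
    62379102138368620076691637353019671090401534032271255346123908260484283710646632708749244919871599922791639721899376783468714739586256727559144387813168298641298431572277372535476987377938138308427223429907653874685220053622868506899557576571727654311380086533)

/-- a level -/
def m36 : Lev × List ℤ :=
  (⟨Pk.unp 8598043 4299021 59
    6738247436092441901278317957891648388913417352924205487584100588360652757112581806467596955710444521262455899659338264378418068116942050907415576865858031626563118122300649335321012926589939098814814417553790901104727434079315827331133585358788811433550264340508471280036287948326732120986639308523281566234546822221133890357789784283522546212794800392281206409784636290684987999992784684266059968857933064659, Pk.unp 123 61 36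
    480479486532498293968833503811578144907232913781636506095730723691980527144, 45, 331201785987072000⟩, Pk.unp 2141 1070 47
    1671461609714008794747264178875635194035940754273673035442081663341538146123861541287039523364035809435330886135112028019508225456118113779719582015788033403)

/-- a level -/
def m37 : Lev × List ℤ :=
  (⟨Pk.unp 9506377 4753188 59
    2522650379369069493237160943072838750853991180636323536874366476435964917985862987085558317100268831865990169670286397906820188945856218041915807392000009868388827638795806604116179922680723599284315415244965549158964882096047975145828438204975595750638200448377511713264246010379695443740297435898266540773376743462956599891245551981890504974473091839284057279342860247175828041300731785002828517881635934149819,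
  Pk.unp 55 27 37
    3510842691261409960159522296555272355526084104876240032961485, 57, 507842738513510400⟩, Pk.unp 340665 170332 47
    49490104093398160468534870717817443802530437212026155475697772325098129704359723621153186148027300330721536914711623265228583825367281209243973812247598596340396962768467324640974922709870272756880530917804026848780779046499858277183976303537806745212838817218)

/-- a level -/
def m38 : Lev × List ℤ :=
  (⟨Pk.unp 4798819 2399409 59
    7689498154577098849755099366562918288057330089572961654633455243817187494984486186958048943919566620070090133476755903602088681527004269755366751620394098427855053167887546081160506670733482700934402251892064712606840038815244888001234055039751239390684593430915539124408684334649881742889800129977745568242160038536610903250196563643024387585998798648546563626285163741082227111541410725988088,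
  Pk.unp 61 30 38
    45232078927997940648180108354985559664476900659105420076462571918153, 23, 80185695554764800⟩, Pk.unp 342375 171187 47
    62674769294468355432436398482965426020573556209419558807981849221569469455520426640707058797706561284055363782359968023671347546551948075317713405509485341814098379522682080118928867006522004998674051219615099042672725514273820252594816920362259275724355781900)

/-- the levels with the coefficients -/
def mc : List (Lev × List ℤ) :=
  (beta% delta% lq26408461af fun _ c d e _ =>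
 (let b:=(let b:=(let b:=(d m34<|d m35<|d m36<|d m37<|d m38<|e);
 (d m29<|d m30<|d m31<|d m32<|d m33<|b));
 (let b:=(d m24<|d m25<|
 d m26<|d m27<|d m28<|b);
 (d m20<|d m21<|d m22<|d m23<|b)));
 (let b:=(let b:=(d m15<|d m16<|d m17<|d m18<|d m19<|b);
 (d m10<|d m11<|d m12<|d m13<|d m14<|b));
 (let b:=(d m5<|d m6<|d m7<|d m8<|d m9<|b);
 (c m1<|c m2<|c m3<|c m4<|b)))))

/-- the levels -/
def mv : List Lev := mc.map Prod.fst

/-- the elements of order `16` -/
def vR : List ℤ :=
  (beta% delta% lq26408461af fun a c _ e _ =>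
 (let b:=(let b:=(let b:=(let b:=(a 0<|a 0<|a 0<|a 0<|e);
 (a 0<|a 0<|a 0<|a 0<|b));
 (a 0<|a 0<|a 0<|a 0<|a 0<|a 16<|a 0<|b));
 (let b:=(let b:=(a 0<|a 0<|a 0<|a 0<|b);
 (a 0<|a 0<|
 a 0<|a 0<|b));
 (a 0<|a 0<|a 0<|a 0<|a 0<|a 0<|a 0<|b)));
 (let b:=(let b:=(let b:=(a 0<|a 0<|a 0<|a 0<|b);
 (a 0<|a 0<|a 0<|a 0<|b));
 (a 0<|a 0<|a 0<|a 0<|a 0<|a 0<|a 0<|b));
 (let b:=(a 0<|a 0<|a 0<|a 0<|a 0<|a 0<|a 0<|b);
 (c 0<|c 0<|c 0<|c 0<|c 0<|c 0<|c 0<|b)))))

/-- the parity relation -/
def cP : List ℤ :=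
  (beta% delta% lq26408461af fun a c _ e _ =>
 (let b:=(let b:=(let b:=(let b:=(a 200200<|a 291200<|a 300300<|a 491400<|e);
 (a 1277952<|a 1364688<|a 69300<|a 200200<|b));
 (a 895577<|a 938223<|a 1013512<|a 1025024<|
 a 1158300<|a 1201200<|a 1277952<|b));
 (let b:=(let b:=(a 600600<|a 680400<|a 686400<|a 720896<|b);
 (a 400400<|a 426465<|a 469112<|a 486486<|b));
 (a 225225<|a 288288<|a 288684<|a 289575<|a 300300<|
 a 337837<|a 360360<|b)));
 (let b:=(let b:=(let b:=(a 160160<|a 180428<|a 185328<|a 225225<|b);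
 (a 75075<|a 102960<|a 144787<|a 150150<|b));
 (a 25025<|a 25025<|a 37537<|a 37537<|a 37538<|
 a 40540<|a 57200<|b));
 (let b:=(a 5363<|a 6825<|a 15015<|a 16016<|a 21840<|a 22523<|a 24024<|b);
 (c 0<|c 39<|c 215<|c 500<|c 715<|c 1502<|c 1540<|b)))))

private noncomputable def _root_.Cfsg.Agent.KOf7d62b5.k0s : (by first | exact Subtype (fun g => @HMod.hMod.{0, 0, 0} (ℕ) (ℕ) (ℕ) _ = @g) | exact Unit : Sort _) := by first | (refine @Subtype.mk _ _ (@(fun x0 x1 => @Nat.mod @x0 @x1)) ?_; rfl') | exact ⟨_, rfl⟩ | exact ()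
private noncomputable def _root_.Cfsg.Agent.KOf7d62b5.k0 : (by first | exact type_of% (@Subtype.val _ _ _root_.Cfsg.Agent.KOf7d62b5.k0s) | exact Unit : Sort _) := by first | exact @Subtype.val _ _ _root_.Cfsg.Agent.KOf7d62b5.k0s | exact ()
private theorem _root_.Cfsg.Agent.KOf7d62b5.e0 : (by first | exact type_of% (show _ = @_root_.Cfsg.Agent.KOf7d62b5.k0 from @Subtype.property _ _ _root_.Cfsg.Agent.KOf7d62b5.k0s) | exact True : Prop) := by first | exact @Subtype.property _ _ _root_.Cfsg.Agent.KOf7d62b5.k0s | trivial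
private noncomputable def _root_.Cfsg.Agent.KOf7d62b5.k1 : type_of% @Int.mul := @(letI c0 := @Int.rec.{1}; letI c1 := @Int.ofNat; letI c2 := @Nat.mul; letI c3 := @Nat.rec.{1}; letI c4 := @Int.negSucc; letI c5 := @Nat.succ; @(fun x0 x1 => @c0 @(fun x2 => ℤ) @(fun x2 => @c0 @(fun x3 => ℤ) @(fun x3 => @c1 (@c2 @x2 @x3)) @(fun x3 => @c3 @(fun x4 => ℤ) (@c1 (nat_lit 0)) @(fun x4 x5 => @c4 @x4) (@c2 @x2 (@c5 @x3))) @x1) @(fun x2 => @c0 @(fun x3 => ℤ) @(fun x3 => @c3 @(fun x4 => ℤ) (@c1 (nat_lit 0)) @(fun x4 x5 => @c4 @x4) (@c2 (@c5 @x2) @x3)) @(fun x3 => @c1 (@c2 (@c5 @x2) (@c5 @x3))) @x1) @x0))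
private theorem _root_.Cfsg.Agent.KOf7d62b5.e1 : @Int.mul = @_root_.Cfsg.Agent.KOf7d62b5.k1 := by delta _root_.Cfsg.Agent.KOf7d62b5.k1; rfl'
private noncomputable def _root_.Cfsg.Agent.KOf7d62b5.k2s : (by first | exact Subtype (fun g => @HMul.hMul.{0, 0, 0} (ℤ) (ℤ) (ℤ) _ = @g) | exact Unit : Sort _) := by first | (refine @Subtype.mk _ _ (@(fun x0 x1 => @Cfsg.Agent.KOf7d62b5.k1 @x0 @x1)) ?_; rewrite [← Cfsg.Agent.KOf7d62b5.e1]; rfl') | exact ⟨_, rfl⟩ | exact ()
private noncomputable def _root_.Cfsg.Agent.KOf7d62b5.k2 : (by first | exact type_of% (@Subtype.val _ _ _root_.Cfsg.Agent.KOf7d62b5.k2s) | exact Unit : Sort _) := by first | exact @Subtype.val _ _ _root_.Cfsg.Agent.KOf7d62b5.k2s | exact ()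
private theorem _root_.Cfsg.Agent.KOf7d62b5.e2 : (by first | exact type_of% (show _ = @_root_.Cfsg.Agent.KOf7d62b5.k2 from @Subtype.property _ _ _root_.Cfsg.Agent.KOf7d62b5.k2s) | exact True : Prop) := by first | exact @Subtype.property _ _ _root_.Cfsg.Agent.KOf7d62b5.k2s | trivial
private noncomputable def _root_.Cfsg.Agent.KOf7d62b5.k3s : (by first | exact Subtype (fun g => @Nat.cast.{0} (ℤ) _ = @g) | exact Unit : Sort _) := by first | (refine @Subtype.mk _ _ (@(fun x0 => @Int.ofNat @x0)) ?_; (try delta Nat.cast); with_reducible_and_instances rfl) | exact ⟨_, rfl⟩ | exact ()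
private noncomputable def _root_.Cfsg.Agent.KOf7d62b5.k3 : (by first | exact type_of% (@Subtype.val _ _ _root_.Cfsg.Agent.KOf7d62b5.k3s) | exact Unit : Sort _) := by first | exact @Subtype.val _ _ _root_.Cfsg.Agent.KOf7d62b5.k3s | exact ()
private theorem _root_.Cfsg.Agent.KOf7d62b5.e3 : (by first | exact type_of% (show _ = @_root_.Cfsg.Agent.KOf7d62b5.k3 from @Subtype.property _ _ _root_.Cfsg.Agent.KOf7d62b5.k3s) | exact True : Prop) := by first | exact @Subtype.property _ _ _root_.Cfsg.Agent.KOf7d62b5.k3s | trivial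
private noncomputable def _root_.Cfsg.Agent.KOf7d62b5.oF.{ku, kv} (M : Type ku) (ι : Type kv) (g : M → M → M) (h : LeftCommutative g) (z : M) (f : ι → M) (s : Multiset ι) : M := @Multiset.foldr M M g h z (Multiset.map f s)
private noncomputable def _root_.Cfsg.Agent.KOf7d62b5.k4.{ku, kv} (M : Type ku) (ι : Type kv) (g : M → M → M) (h : LeftCommutative g) (z : M) (f : ι → M) (s : Multiset ι) : M := @Quot.lift _ _ M (fun l : List ι => @List.rec ι (fun _ => M) z (fun a _ r => g (f a) r) l) (fun a b p => by induction p with | nil => rfl | cons x _ ih => exact congrArg (g (f x)) ih | swap x y l => exact h.left_comm _ _ _ | trans _ _ i j => exact i.trans j) s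
private theorem _root_.Cfsg.Agent.KOf7d62b5.e4.{ku, kv} : @_root_.Cfsg.Agent.KOf7d62b5.oF.{ku, kv} = @_root_.Cfsg.Agent.KOf7d62b5.k4.{ku, kv} := by funext M ι g h z f s; induction s using Quot.ind with | mk l => induction l with | nil => rfl | cons a l ih => exact congrArg (g (f a)) ih
private noncomputable def _root_.Cfsg.Agent.KOf7d62b5.k7s : (by first | exact Subtype (fun g => @Finset.sum.{0, 0} (ℕ) (ℤ) _ = @g) | exact Unit : Sort _) := by first | (refine @Subtype.mk _ _ (@(letI c0 := @Int.rec.{1}; letI c1 := @Int.ofNat; letI c2 := @Nat.add; letI c3 := @Nat.rec.{1}; letI c4 := @Nat.sub; letI c5 := @Nat.succ; letI c6 := @Int.negSucc; @(by set_option smartUnfolding false in with_unfolding_all exact @(fun x0 x1 => @Cfsg.Agent.KOf7d62b5.k4.{0, 0} ℤ ℕ @(fun x2 x3 => @c0 @(fun x4 => ℤ) @(fun x4 => @c0 @(fun x5 => ℤ) @(fun x5 => @c1 (@c2 @x4 @x5)) @(fun x5 => @c3 @(fun x6 => ℤ) (@c1 (@c4 @x4 (@c5 @x5))) @(fun x6 x7 => @c6 @x6) (@c4 (@c5 @x5) @x4)) @x3) @(fun x4 => @c0 @(fun x5 => ℤ) @(fun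 x5 => @c3 @(fun x6 => ℤ) (@c1 (@c4 @x5 (@c5 @x4))) @(fun x6 x7 => @c6 @x6) (@c4 (@c5 @x4) @x5)) @(fun x5 => @c6 (@c5 (@c2 @x4 @x5))) @x3) @x2) (@Multiset.sum._proof_1.{0} _ _) (@c1 (nat_lit 0)) @x1 (@Finset.val.{0} _ @x0))))) ?_; (set_option smartUnfolding false in rewrite [← Cfsg.Agent.KOf7d62b5.e4.{0, 0}]); rfl') | exact ⟨_, rfl⟩ | exact ()
private noncomputable def _root_.Cfsg.Agent.KOf7d62b5.k7 : (by first | exact type_of% (@Subtype.val _ _ _root_.Cfsg.Agent.KOf7d62b5.k7s) | exact Unit : Sort _) := by first | exact @Subtype.val _ _ _root_.Cfsg.Agent.KOf7d62b5.k7s | exact ()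
private theorem _root_.Cfsg.Agent.KOf7d62b5.e7 : (by first | exact type_of% (show _ = @_root_.Cfsg.Agent.KOf7d62b5.k7 from @Subtype.property _ _ _root_.Cfsg.Agent.KOf7d62b5.k7s) | exact True : Prop) := by first | exact @Subtype.property _ _ _root_.Cfsg.Agent.KOf7d62b5.k7s | trivial
private noncomputable def _root_.Cfsg.Agent.KOf7d62b5.k8 : type_of% @Decidable.decide := @(fun x0 x1 => @Decidable.rec.{1} _ @(fun x2 => @Bool) @(fun x2 => @Bool.false) @(fun x2 => @Bool.true) @x1)
private theorem _root_.Cfsg.Agent.KOf7d62b5.e8 : @Decidable.decide = @_root_.Cfsg.Agent.KOf7d62b5.k8 := by delta _root_.Cfsg.Agent.KOf7d62b5.k8; rfl'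
private theorem _root_.Cfsg.Agent.KOf7d62b5.e9.{ku, kv} {α : Type kv} {M : List α → Sort ku} (φ : ∀ l, M l) {z : M List.nil} {s : ∀ a l, M l → M (List.cons a l)} (h0 : φ List.nil = z) (hs : ∀ a l, φ (List.cons a l) = s a l (φ l)) (l : List α) : φ l = @List.rec α M z s l := List.rec h0 (fun a l ih => (hs a l).trans (congrArg (s a l) ih)) l
private noncomputable def _root_.Cfsg.Agent.KOf7d62b5.k10.{ku0} : type_of% @List.decidableBAll.{ku0} := @(fun x0 x1 x2 x3 => @List.rec.{1, ku0} @x0 @(fun x4 => @Decidable ((x5 : @x0) → (@Membership.mem.{ku0, ku0} _ _ _ @x4 @x5) → @x1 @x5)) (@Decidable.isTrue _ (@List.decidableBAll._proof_1.{ku0} _ @x1)) @(fun x4 x5 x6 => @Decidable.rec.{1} _ @(fun x7 => @Decidable ((x8 : @x0) → (@Membership.mem.{ku0, ku0} _ _ _ (@x4 :: @x5) @x8) → @x1 @x8)) @(fun x7 => @Decidable.isFalse _ (@List.decidableBAll._proof_4.{ku0} _ @x1 @x4 @x5 @x7)) @(fun x7 => @Decidable.rec.{1} _ @(fun x8 => @Decidable ((x9 : @x0) → (@Membership.mem.{ku0, ku0} _ _ _ (@x4 :: @x5) @x9) → @x1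 @x9)) @(fun x8 => @Decidable.isFalse _ (@List.decidableBAll._proof_3.{ku0} _ @x1 @x4 @x5 @x8)) @(fun x8 => @Decidable.isTrue _ (@List.decidableBAll._proof_2.{ku0} _ @x1 @x4 @x5 @x7 @x8)) @x6) (@x2 @x4)) @x3)
private theorem _root_.Cfsg.Agent.KOf7d62b5.e10.{ku0} : @List.decidableBAll.{ku0} = @_root_.Cfsg.Agent.KOf7d62b5.k10.{ku0} := by delta _root_.Cfsg.Agent.KOf7d62b5.k10; exact Subsingleton.elim _ _
private noncomputable def _root_.Cfsg.Agent.KOf7d62b5.k11 : type_of% @instDecidableAnd := @(fun x0 x1 x2 x3 => @Decidable.rec.{1} _ @(fun x4 => @Decidable (@And @x0 @x1)) @(fun x4 => @Decidable.isFalse _ (@instDecidableAnd._proof_2 _ _ @x4)) @(fun x4 => @Decidable.rec.{1} _ @(fun x5 => @Decidable (@And @x0 @x1)) @(fun x5 => @Decidable.isFalse _ (@instDecidableAnd._proof_1 _ _ @x5)) @(fun x5 => @Decidable.isTrue _ (@And.intro _ _ @x4 @x5)) @x3) @x2)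
private theorem _root_.Cfsg.Agent.KOf7d62b5.e11 : @instDecidableAnd = @_root_.Cfsg.Agent.KOf7d62b5.k11 := by delta _root_.Cfsg.Agent.KOf7d62b5.k11; exact Subsingleton.elim _ _
private noncomputable def _root_.Cfsg.Agent.KOf7d62b5.k12 : type_of% @Bool.decEq := @(letI c0 := @Bool.rec.{1}; letI c1 := @Decidable.isTrue; letI c2 := @rfl.{1}; letI c3 := @Decidable.isFalse; letI c4 := @Bool.noConfusion.{0}; @(fun x0 x1 => @c0 @(fun x2 => @Decidable (@Eq.{1} _ @x2 @x1)) (@c0 @(fun x2 => @Decidable (@Eq.{1} _ @Bool.false @x2)) (@c1 _ (@c2 _ _)) (@c3 _ @(fun x2 => @c4 _ _ _ @x2)) @x1) (@c0 @(fun x2 => @Decidable (@Eq.{1} _ @Bool.true @x2)) (@c3 _ @(fun x2 => @c4 _ _ _ @x2)) (@c1 _ (@c2 _ _)) @x1) @x0))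
private noncomputable def _root_.Cfsg.Agent.KOf7d62b5.k13 : type_of% @Nat.decLe := @(fun x0 x1 => @Decidable.rec.{1} _ @(fun x2 => @Decidable (@LE.le.{0} _ _ @x0 @x1)) @(fun x2 => @Decidable.isFalse _ (@Nat.not_le_of_not_ble_eq_true _ _ @x2)) @(fun x2 => @Decidable.isTrue _ (@Nat.le_of_ble_eq_true _ _ @x2)) (@Cfsg.Agent.KOf7d62b5.k12 (@Nat.ble @x0 @x1) @Bool.true))
private noncomputable def _root_.Cfsg.Agent.KOf7d62b5.k14 : type_of% @Nat.decLt := @(fun x0 x1 => @Cfsg.Agent.KOf7d62b5.k13 (@Nat.succ @x0) @x1)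
private theorem _root_.Cfsg.Agent.KOf7d62b5.e14 : @Nat.decLt = @_root_.Cfsg.Agent.KOf7d62b5.k14 := by delta _root_.Cfsg.Agent.KOf7d62b5.k14; exact Subsingleton.elim _ _
private noncomputable def _root_.Cfsg.Agent.KOf7d62b5.k15 : type_of% @Nat.decEq := @(letI c0 := @Nat.beq; @(fun x0 x1 => @Bool.rec.{1} @(fun x2 => (@Eq.{1} _ (@c0 @x0 @x1) @x2) → @Decidable (@Eq.{1} _ @x0 @x1)) @(fun x2 => @Decidable.isFalse _ (@Nat.ne_of_beq_eq_false _ _ @x2)) @(fun x2 => @Decidable.isTrue _ (@Nat.eq_of_beq_eq_true _ _ @x2)) (@c0 @x0 @x1) (@Eq.refl.{1} _ (@c0 @x0 @x1))))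
private noncomputable def _root_.Cfsg.Agent.KOf7d62b5.k16 : type_of% @instDecidableEqNat := @Cfsg.Agent.KOf7d62b5.k15
private theorem _root_.Cfsg.Agent.KOf7d62b5.e16 : @instDecidableEqNat = @_root_.Cfsg.Agent.KOf7d62b5.k16 := by delta _root_.Cfsg.Agent.KOf7d62b5.k16; exact Subsingleton.elim _ _
private noncomputable def _root_.Cfsg.Agent.KOf7d62b5.oEq.{ku} (α : Sort ku) (a b : Nat) (f t : α) : α := @Decidable.rec (a = b) (fun _ => α) (fun _ => f) (fun _ => t) (Nat.decEq a b)
private noncomputable def _root_.Cfsg.Agent.KOf7d62b5.k17.{ku} (α : Sort ku) (a b : Nat) (f t : α) : α := @Bool.rec (fun _ => α) f t (Nat.beq a b)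
private theorem _root_.Cfsg.Agent.KOf7d62b5.e17.{ku} : @_root_.Cfsg.Agent.KOf7d62b5.oEq.{ku} = @_root_.Cfsg.Agent.KOf7d62b5.k17.{ku} := funext fun α => funext fun a => funext fun b => funext fun f => funext fun t => by delta _root_.Cfsg.Agent.KOf7d62b5.oEq _root_.Cfsg.Agent.KOf7d62b5.k17; cases h : Nat.beq a b <;> cases Nat.decEq a b <;> rename_i g <;> first | rfl | exact absurd g (Nat.ne_of_beq_eq_false h) | exact absurd (Nat.eq_of_beq_eq_true h) g
private noncomputable def _root_.Cfsg.Agent.KOf7d62b5.k18 : (by first | exact type_of% @Cfsg.Agent.TAB.Eng.look | exact Unit : Sort _) := by first | (refine @Subtype.val _ (fun g => @Cfsg.Agent.TAB.Eng.look = @g) (@Subtype.mk _ _ (@(fun x0 x1 => @List.rec.{1, 0} (ℕ × ℕ) @(fun x2 => ℕ → ℕ) @(fun x2 => nat_lit 0) @(fun x2 x3 x4 x5 => @Cfsg.Agent.KOf7d62b5.k17.{1} ℕ (@Prod.fst.{0, 0} _ _ @x2) @x5 (@x4 @x5) (@Prod.snd.{0, 0} _ _ @x2)) @x0 @x1)) ?_); rewrite [← Cfsg.Agent.KOf7d62b5.e17.{1}]; funext a0 a1; refine (congrFun (_root_.Cfsg.Agent.KOf7d62b5.e9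 (fun a0 a1 => @Cfsg.Agent.TAB.Eng.look a0 a1) ?_ (fun c0 c1 => ?_) a0) a1 :) <;> (rfl')) | exact @Cfsg.Agent.TAB.Eng.look | exact ()
private theorem _root_.Cfsg.Agent.KOf7d62b5.e18 : (by first | exact @Cfsg.Agent.TAB.Eng.look = @_root_.Cfsg.Agent.KOf7d62b5.k18 | exact True : Prop) := by first | (delta _root_.Cfsg.Agent.KOf7d62b5.k18; exact @Subtype.property _ (fun g => @Cfsg.Agent.TAB.Eng.look = @g) _) | rfl | trivial
private noncomputable def _root_.Cfsg.Agent.KOf7d62b5.k20.{ku0} : type_of% @List.get?Internal.{ku0} := @(fun x0 x1 x2 => @List.rec.{(ku0+1), ku0} @x0 @(fun x3 => ℕ → @Option.{ku0} @x0) @(fun x3 => @Option.none.{ku0} _) @(fun x3 x4 x5 x6 => @Nat.rec.{(ku0+1)} @(fun x7 => @Option.{ku0} @x0) (@Option.some.{ku0} _ @x3) @(fun x7 x8 => @x5 @x7) @x6) @x1 @x2)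
private theorem _root_.Cfsg.Agent.KOf7d62b5.e20.{ku0} : @List.get?Internal.{ku0} = @_root_.Cfsg.Agent.KOf7d62b5.k20.{ku0} := by delta _root_.Cfsg.Agent.KOf7d62b5.k20; funext a0 a1 a2; refine (congrFun (_root_.Cfsg.Agent.KOf7d62b5.e9 (fun a1 a2 => @List.get?Internal.{ku0} a0 a1 a2) ?_ (fun c0 c1 => ?_) a1) a2 :) <;> [(funext b0; (rfl')); (funext b0; (cases b0 with | @zero  => (rfl') | @succ b0_0 => (rfl')))]
private noncomputable def _root_.Cfsg.Agent.KOf7d62b5.k21 : (by first | exact type_of% @Cfsg.Agent.TAB.Eng.Dat.pwf | exact Unit : Sort _) := by first | (refine @Subtype.val _ (fun g => @Cfsg.Agent.TAB.Eng.Dat.pwf = @g) (@Subtype.mk _ _ (@(letI c0 := @Option.rec.{1, 0}; @(fun x0 x1 x2 => @Cfsg.Agent.KOf7d62b5.k18 (@c0 (@List.{0} (ℕ × ℕ)) @(fun x3 => @List.{0} (ℕ × ℕ)) [] @(fun x3 => @x3) (@Cfsg.Agent.KOf7d62b5.k20.{0} _ (@Cfsg.Agent.TAB.Eng.Dat.pwL @x0) @x1)) (@Nat.gcd @x2 (@c0 ℕ @(fun x3 => ℕ) (nat_lit 0) @(fun x3 => @x3) (@Cfsg.Agent.KOf7d62b5.k20.{0} _ (@Cfsg.Agent.TAB.Eng.Dat.ordL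 @x0) @x1)))))) ?_); rewrite [← Cfsg.Agent.KOf7d62b5.e20.{0}, ← Cfsg.Agent.KOf7d62b5.e18]; (try delta Cfsg.Agent.TAB.Eng.Dat.pwf Cfsg.Agent.TAB.Eng.Dat.pw Cfsg.Agent.TAB.Eng.Dat.ord); (try generalize @Cfsg.Agent.TAB.Eng.look = g0); rfl') | exact @Cfsg.Agent.TAB.Eng.Dat.pwf | exact ()
private theorem _root_.Cfsg.Agent.KOf7d62b5.e21 : (by first | exact @Cfsg.Agent.TAB.Eng.Dat.pwf = @_root_.Cfsg.Agent.KOf7d62b5.k21 | exact True : Prop) := by first | (delta _root_.Cfsg.Agent.KOf7d62b5.k21; exact @Subtype.property _ (fun g => @Cfsg.Agent.TAB.Eng.Dat.pwf = @g) _) | rfl | trivial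
private noncomputable def _root_.Cfsg.Agent.KOf7d62b5.k22l (n : Nat) (P : ∀ k, k < n → Prop) (H : ∀ k h, Decidable (P k h)) (m : Nat) : m ≤ n → Bool := @Nat.rec (fun m => m ≤ n → Bool) (fun _ => true) (fun k ih h => @Decidable.rec (P k h) (fun _ => Bool) (fun _ => false) (fun _ => ih (Nat.le_of_succ_le h)) (H k h)) m
private theorem _root_.Cfsg.Agent.KOf7d62b5.k22ls (n : Nat) (P : ∀ k, k < n → Prop) (H : ∀ k h, Decidable (P k h)) (m : Nat) : ∀ h : m ≤ n, _root_.Cfsg.Agent.KOf7d62b5.k22l n P H m h = true ↔ ∀ k (g : k < m), P k (Nat.lt_of_lt_of_le g h) := by induction m with | zero => exact fun _ => ⟨fun _ _ g => absurd g (Nat.not_lt_zero _), fun _ => rfl⟩ | succ m ih => intro h; show @Decidable.rec (P m h) (fun _ => Bool) (fun _ => false) (fun _ => _root_.Cfsg.Agent.KOf7d62b5.k22l n P H m (Nat.le_of_succ_le h)) (H m h) = true ↔ _; cases H m h with | isFalse q => exact ⟨fun g => absurd g Bool.false_ne_true, fun g => absurd (g m (Nat.lt_succ_self m)) q⟩ | isTrue q => exact ⟨fun g k hk =>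 (Nat.lt_succ_iff_lt_or_eq.1 hk).elim ((ih _).1 g k) fun e => by subst e; exact q, fun g => (ih _).2 fun k hk => g k (Nat.lt_succ_of_lt hk)⟩
private noncomputable def _root_.Cfsg.Agent.KOf7d62b5.k22 (n : Nat) (P : ∀ k, k < n → Prop) (H : ∀ k h, Decidable (P k h)) : Decidable (∀ k h, P k h) := @Bool.rec (fun b => _root_.Cfsg.Agent.KOf7d62b5.k22l n P H n (Nat.le_refl n) = b → Decidable (∀ k h, P k h)) (fun g => isFalse fun q => Bool.false_ne_true (g.symm.trans ((_root_.Cfsg.Agent.KOf7d62b5.k22ls n P H n _).2 fun k h => q k h))) (fun g => isTrue fun k h => (_root_.Cfsg.Agent.KOf7d62b5.k22ls n P H n _).1 g k h) (_root_.Cfsg.Agent.KOf7d62b5.k22l n P H n (Nat.le_refl n)) rfl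
private theorem _root_.Cfsg.Agent.KOf7d62b5.e22 : @Nat.decidableBallLT = @_root_.Cfsg.Agent.KOf7d62b5.k22 := funext fun _ => funext fun _ => funext fun _ => Subsingleton.elim _ _
private noncomputable def _root_.Cfsg.Agent.KOf7d62b5.k23 : type_of% @instDecidableIte := @(fun (x0 : Prop) (x1 : Prop) (x2 : Prop) (x3 : @Decidable @x0) (x4 : @Decidable @x1) (x5 : @Decidable @x2) => @Decidable.rec.{1} @x0 @(fun (x6 : @Decidable @x0) => @Decidable (@ite.{1} (Prop) @x0 @x6 @x1 @x2)) @(fun (x6 : @Not @x0) => x5) @(fun (x6 : x0) => x4) @x3)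
private theorem _root_.Cfsg.Agent.KOf7d62b5.e23 : @instDecidableIte = @_root_.Cfsg.Agent.KOf7d62b5.k23 := by delta _root_.Cfsg.Agent.KOf7d62b5.k23; exact Subsingleton.elim _ _
private noncomputable def _root_.Cfsg.Agent.KOf7d62b5.k24 : type_of% @Nat.decidable_dvd := @(letI c0 := @Nat.decidable_dvd._proof_1; @(fun x0 x1 => @Decidable.rec.{1} _ @(fun x2 => @Decidable (@Dvd.dvd.{0} _ _ @x0 @x1)) @(fun x2 => @Decidable.isFalse _ (@decidable_of_decidable_of_iff._proof_1 _ _ (@c0 @x0 @x1) @x2)) @(fun x2 => @Decidable.isTrue _ (@Iff.mp _ _ (@c0 @x0 @x1) @x2)) (@Cfsg.Agent.KOf7d62b5.k15 (@Nat.mod @x1 @x0) (nat_lit 0))))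
private theorem _root_.Cfsg.Agent.KOf7d62b5.e24 : @Nat.decidable_dvd = @_root_.Cfsg.Agent.KOf7d62b5.k24 := by delta _root_.Cfsg.Agent.KOf7d62b5.k24; exact Subsingleton.elim _ _
private noncomputable def _root_.Cfsg.Agent.KOf7d62b5.k25 : (by first | exact type_of% @Cfsg.Agent.TAB.Eng.Dat.ord | exact Unit : Sort _) := by first | (refine @Subtype.val _ (fun g => @Cfsg.Agent.TAB.Eng.Dat.ord = @g) (@Subtype.mk _ _ (@(fun x0 x1 => @Option.rec.{1, 0} ℕ @(fun x2 => ℕ) (nat_lit 0) @(fun x2 => @x2) (@Cfsg.Agent.KOf7d62b5.k20.{0} _ (@Cfsg.Agent.TAB.Eng.Dat.ordL @x0) @x1))) ?_); rewrite [← Cfsg.Agent.KOf7d62b5.e20.{0}]; rfl') | exact @Cfsg.Agent.TAB.Eng.Dat.ord | exact ()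
private theorem _root_.Cfsg.Agent.KOf7d62b5.e25 : (by first | exact @Cfsg.Agent.TAB.Eng.Dat.ord = @_root_.Cfsg.Agent.KOf7d62b5.k25 | exact True : Prop) := by first | (delta _root_.Cfsg.Agent.KOf7d62b5.k25; exact @Subtype.property _ (fun g => @Cfsg.Agent.TAB.Eng.Dat.ord = @g) _) | rfl | trivial
private noncomputable def _root_.Cfsg.Agent.KOf7d62b5.k26 : type_of% @instDecidableNot := @(fun x0 x1 => @Decidable.rec.{1} _ @(fun x2 => @Decidable (¬ @x0)) @(fun x2 => @Decidable.isTrue _ @x2) @(fun x2 => @Decidable.isFalse _ (@absurd.{0} _ _ @x2)) @x1)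
private theorem _root_.Cfsg.Agent.KOf7d62b5.e26 : @instDecidableNot = @_root_.Cfsg.Agent.KOf7d62b5.k26 := by delta _root_.Cfsg.Agent.KOf7d62b5.k26; exact Subsingleton.elim _ _
private noncomputable def _root_.Cfsg.Agent.KOf7d62b5.k27 : type_of% @Int.decEq := @(letI c0 := @Int.rec.{1}; letI c1 := @Int.ofNat; letI c2 := @Decidable.rec.{1}; letI c3 := @Decidable.isFalse; letI c4 := @Decidable.isTrue; letI c5 := @Int.negSucc; @(fun x0 x1 => @c0 @(fun x2 => @Decidable (@Eq.{1} _ @x2 @x1)) @(fun x2 => @c0 @(fun x3 => @Decidable (@Eq.{1} _ (@c1 @x2) @x3)) @(fun x3 => @c2 _ @(fun x4 => @Decidable (@Eq.{1} _ (@c1 @x2) (@c1 @x3))) @(fun x4 => @c3 _ (@Int.decEq._proof_2 @x2 @x3 @x4)) @(fun x4 => @c4 _ (@Int.decEq._proof_1 @x2 @x3 @x4)) (@Cfsg.Agent.KOf7d62b5.k15 @x2 @x3)) @(fun x3 => @c3 _ (@Int.decEq._proof_3 @x2 @x3)) @x1) @(fun x2 => @c0 @(fun x3 => @Decidable (@Eq.{1} _ (@c5 @x2) @x3)) @(fun x3 => @c3 _ (@Int.decEq._proof_4 @x2 @x3)) @(fun x3 => @c2 _ @(fun x4 => @Decidable (@Eq.{1} _ (@c5 @x2)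 (@c5 @x3))) @(fun x4 => @c3 _ (@Int.decEq._proof_6 @x2 @x3 @x4)) @(fun x4 => @c4 _ (@Int.decEq._proof_5 @x2 @x3 @x4)) (@Cfsg.Agent.KOf7d62b5.k15 @x2 @x3)) @x1) @x0))
private theorem _root_.Cfsg.Agent.KOf7d62b5.e27 : @Int.decEq = @_root_.Cfsg.Agent.KOf7d62b5.k27 := by delta _root_.Cfsg.Agent.KOf7d62b5.k27; exact Subsingleton.elim _ _
private noncomputable def _root_.Cfsg.Agent.KOf7d62b5.k28 : type_of% @Int.instDecidableEq := @Cfsg.Agent.KOf7d62b5.k27
private theorem _root_.Cfsg.Agent.KOf7d62b5.e28 : @Int.instDecidableEq = @_root_.Cfsg.Agent.KOf7d62b5.k28 := by delta _root_.Cfsg.Agent.KOf7d62b5.k28; exact Subsingleton.elim _ _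
private noncomputable def _root_.Cfsg.Agent.KOf7d62b5.k29 : (by first | exact type_of% @Cfsg.Agent.TAB.Eng.nth | exact Unit : Sort _) := by first | (refine @Subtype.val _ (fun g => @Cfsg.Agent.TAB.Eng.nth = @g) (@Subtype.mk _ _ (@(fun x0 => @List.rec.{1, 0} ℤ @(fun x1 => ℕ → ℤ) @(fun x1 => @Int.ofNat (nat_lit 0)) @(fun x1 x2 x3 x4 => @Nat.rec.{1} @(fun x5 => ℤ) @x1 @(fun x5 x6 => @x3 @x5) @x4) @x0)) ?_); rfl') | exact @Cfsg.Agent.TAB.Eng.nth | exact ()
private theorem _root_.Cfsg.Agent.KOf7d62b5.e29 : (by first | exact @Cfsg.Agent.TAB.Eng.nth = @_root_.Cfsg.Agent.KOf7d62b5.k29 | exact True : Prop) := by first | (delta _root_.Cfsg.Agent.KOf7d62b5.k29; exact @Subtype.property _ (fun g => @Cfsg.Agent.TAB.Eng.nth = @g) _) | rfl | trivial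
private noncomputable def _root_.Cfsg.Agent.KOf7d62b5.k30 : (by first | exact type_of% @Cfsg.Agent.TAB.Eng.Dat.cnt | exact Unit : Sort _) := by first | (refine @Subtype.val _ (fun g => @Cfsg.Agent.TAB.Eng.Dat.cnt = @g) (@Subtype.mk _ _ (@(fun x0 x1 => @Option.rec.{1, 0} ℕ @(fun x2 => ℕ) (nat_lit 0) @(fun x2 => @x2) (@Cfsg.Agent.KOf7d62b5.k20.{0} _ (@Cfsg.Agent.TAB.Eng.Dat.cntL @x0) @x1))) ?_); rewrite [← Cfsg.Agent.KOf7d62b5.e20.{0}]; rfl') | exact @Cfsg.Agent.TAB.Eng.Dat.cnt | exact ()
private theorem _root_.Cfsg.Agent.KOf7d62b5.e30 : (by first | exact @Cfsg.Agent.TAB.Eng.Dat.cnt = @_root_.Cfsg.Agent.KOf7d62b5.k30 | exact True : Prop) := by first | (delta _root_.Cfsg.Agent.KOf7d62b5.k30; exact @Subtype.property _ (fun g => @Cfsg.Agent.TAB.Eng.Dat.cnt = @g) _) | rfl | trivial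
private noncomputable def _root_.Cfsg.Agent.KOf7d62b5.k33 : type_of% @Finset.range := @(fun x0 => @Finset.mk.{0} _ (@Quot.mk.{1} _ (@Setoid.r.{1} _ _) (@List.range.loop @x0 [])) (@Multiset.nodup_range @x0))
private theorem _root_.Cfsg.Agent.KOf7d62b5.e33 : @Finset.range = @_root_.Cfsg.Agent.KOf7d62b5.k33 := by delta _root_.Cfsg.Agent.KOf7d62b5.k33; rfl'

theorem inds_chk : ∀ p ∈ inds, p.1 < 59 ∧ dat.pwf p.1 16 = 7 ∧ (∀ k < 48, dat.pwf p.1 k < 59 ∧
    if 3 ∣ dat.ord (dat.pwf p.1 k) then k % 3 ≠ 0 ∧ nth bb (dat.pwf p.1 k) = 9 else k % 3 = 0) ∧ ∀ s < 59,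
      nth p.2 s * 48 * dat.cnt s = ∑ k ∈ Finset.range 48, if s = dat.pwf p.1 k then 2 * (dat.N : ℤ) else 0 := by
  (first | (refine of_decide_eq_true ?_; rewrite [Cfsg.Agent.KOf7d62b5.e2, Cfsg.Agent.KOf7d62b5.e0, Cfsg.Agent.KOf7d62b5.e7, Cfsg.Agent.KOf7d62b5.e3, Cfsg.Agent.KOf7d62b5.e8, Cfsg.Agent.KOf7d62b5.e10.{0}, Cfsg.Agent.KOf7d62b5.e11, Cfsg.Agent.KOf7d62b5.e14, Cfsg.Agent.KOf7d62b5.e16, Cfsg.Agent.KOf7d62b5.e21, Cfsg.Agent.KOf7d62b5.e22, Cfsg.Agent.KOf7d62b5.e23, Cfsg.Agent.KOf7d62b5.e24, Cfsg.Agent.KOf7d62b5.e25, Cfsg.Agent.KOf7d62b5.e26, Cfsg.Agent.KOf7d62b5.e28, Cfsg.Agent.KOf7d62b5.e29, Cfsg.Agent.KOf7d62b5.e30, Cfsg.Agent.KOf7d62b5.e33]; decide +kernel) | decide +kernel)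

private noncomputable def _root_.Cfsg.Agent.KOf7d62b5.k35.{ku0, ku1} : type_of% @List.map.{ku0, ku1} := @(fun x0 x1 x2 x3 => @List.rec.{(ku1+1), ku0} @x0 @(fun x4 => @List.{ku1} @x1) [] @(fun x4 x5 x6 => (@x2 @x4) :: @x6) @x3)
private theorem _root_.Cfsg.Agent.KOf7d62b5.e35.{ku0, ku1} : @List.map.{ku0, ku1} = @_root_.Cfsg.Agent.KOf7d62b5.k35.{ku0, ku1} := by delta _root_.Cfsg.Agent.KOf7d62b5.k35; funext a0 a1 a2 a3; refine (_root_.Cfsg.Agent.KOf7d62b5.e9 (fun a3 => @List.map.{ku0, ku1} a0 a1 a2 a3) ?_ (fun c0 c1 => ?_) a3 :) <;> (rfl')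
private noncomputable def _root_.Cfsg.Agent.KOf7d62b5.k36s : (by first | exact Subtype (fun g => @HPow.hPow.{0, 0, 0} (ℕ) (ℕ) (ℕ) _ = @g) | exact Unit : Sort _) := by first | (refine @Subtype.mk _ _ (@(fun x0 x1 => @Nat.pow @x0 @x1)) ?_; rfl') | exact ⟨_, rfl⟩ | exact ()
private noncomputable def _root_.Cfsg.Agent.KOf7d62b5.k36 : (by first | exact type_of% (@Subtype.val _ _ _root_.Cfsg.Agent.KOf7d62b5.k36s) | exact Unit : Sort _) := by first | exact @Subtype.val _ _ _root_.Cfsg.Agent.KOf7d62b5.k36s | exact ()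
private theorem _root_.Cfsg.Agent.KOf7d62b5.e36 : (by first | exact type_of% (show _ = @_root_.Cfsg.Agent.KOf7d62b5.k36 from @Subtype.property _ _ _root_.Cfsg.Agent.KOf7d62b5.k36s) | exact True : Prop) := by first | exact @Subtype.property _ _ _root_.Cfsg.Agent.KOf7d62b5.k36s | trivial
private noncomputable def _root_.Cfsg.Agent.KOf7d62b5.k37.{ku0} : type_of% @List.append.{ku0} := @(fun x0 x1 x2 => @List.rec.{(ku0+1), ku0} @x0 @(fun x3 => (@List.{ku0} @x0) → @List.{ku0} @x0) @(fun x3 => @x3) @(fun x3 x4 x5 x6 => @x3 :: (@x5 @x6)) @x1 @x2)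
private theorem _root_.Cfsg.Agent.KOf7d62b5.e37.{ku0} : @List.append.{ku0} = @_root_.Cfsg.Agent.KOf7d62b5.k37.{ku0} := by delta _root_.Cfsg.Agent.KOf7d62b5.k37; funext a0 a1 a2; refine (congrFun (_root_.Cfsg.Agent.KOf7d62b5.e9 (fun a1 a2 => @List.append.{ku0} a0 a1 a2) ?_ (fun c0 c1 => ?_) a1) a2 :) <;> (rfl')
private noncomputable def _root_.Cfsg.Agent.KOf7d62b5.k38s : (by first | exact Subtype (fun g => @HAppend.hAppend.{0, 0, 0} (@List.{0} (@List.{0} ℤ)) (@List.{0} (@List.{0} ℤ)) (@List.{0} (@List.{0} ℤ)) _ = @g) | exact Unit : Sort _) := by first | (refine @Subtype.mk _ _ (@(fun x0 x1 => @Cfsg.Agent.KOf7d62b5.k37.{0} _ @x0 @x1)) ?_; rewrite [← Cfsg.Agent.KOf7d62b5.e37.{0}]; rfl') | exact ⟨_, rfl⟩ | exact ()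
private noncomputable def _root_.Cfsg.Agent.KOf7d62b5.k38 : (by first | exact type_of% (@Subtype.val _ _ _root_.Cfsg.Agent.KOf7d62b5.k38s) | exact Unit : Sort _) := by first | exact @Subtype.val _ _ _root_.Cfsg.Agent.KOf7d62b5.k38s | exact ()
private theorem _root_.Cfsg.Agent.KOf7d62b5.e38 : (by first | exact type_of% (show _ = @_root_.Cfsg.Agent.KOf7d62b5.k38 from @Subtype.property _ _ _root_.Cfsg.Agent.KOf7d62b5.k38s) | exact True : Prop) := by first | exact @Subtype.property _ _ _root_.Cfsg.Agent.KOf7d62b5.k38s | trivial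
private noncomputable def _root_.Cfsg.Agent.KOf7d62b5.k39 : (by first | exact type_of% @Cfsg.Agent.TAB.Eng.frc | exact Unit : Sort _) := by first | (refine @Subtype.val _ (fun g => @Cfsg.Agent.TAB.Eng.frc = @g) (@Subtype.mk _ _ (@(fun x0 x1 x2 => @Nat.rec.{1} @(fun x3 => @x0) (@x2 (nat_lit 0)) @(fun x3 x4 => @x2 (@Nat.succ @x3)) @x1)) ?_); rfl') | exact @Cfsg.Agent.TAB.Eng.frc | exact ()
private theorem _root_.Cfsg.Agent.KOf7d62b5.e39 : (by first | exact @Cfsg.Agent.TAB.Eng.frc = @_root_.Cfsg.Agent.KOf7d62b5.k39 | exact True : Prop) := by first | (delta _root_.Cfsg.Agent.KOf7d62b5.k39; exact @Subtype.property _ (fun g => @Cfsg.Agent.TAB.Eng.frc = @g) _) | rfl | trivial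
private noncomputable def _root_.Cfsg.Agent.KOf7d62b5.k40 : (by first | exact type_of% @Cfsg.Agent.TAB.Cov.frI | exact Unit : Sort _) := by first | (refine @Subtype.val _ (fun g => @Cfsg.Agent.TAB.Cov.frI = @g) (@Subtype.mk _ _ (@(fun x0 x1 x2 => @Int.rec.{1} @(fun x3 => @x0) @(fun x3 => @Cfsg.Agent.KOf7d62b5.k39 _ @x3 @(fun x4 => @x2 (@Int.ofNat @x4))) @(fun x3 => @Cfsg.Agent.KOf7d62b5.k39 _ @x3 @(fun x4 => @x2 (@Int.negSucc @x4))) @x1)) ?_); rewrite [← Cfsg.Agent.KOf7d62b5.e39]; (try delta Cfsg.Agent.TAB.Cov.frI); (try generalize @Cfsg.Agent.TAB.Eng.frc = g0); rfl') | exact @Cfsg.Agent.TAB.Cov.frI | exact ()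
private theorem _root_.Cfsg.Agent.KOf7d62b5.e40 : (by first | exact @Cfsg.Agent.TAB.Cov.frI = @_root_.Cfsg.Agent.KOf7d62b5.k40 | exact True : Prop) := by first | (delta _root_.Cfsg.Agent.KOf7d62b5.k40; exact @Subtype.property _ (fun g => @Cfsg.Agent.TAB.Cov.frI = @g) _) | rfl | trivial
private noncomputable def _root_.Cfsg.Agent.KOf7d62b5.k41 : (by first | exact type_of% @Cfsg.Agent.TAB.Cov.frL | exact Unit : Sort _) := by first | (refine @Subtype.val _ (fun g => @Cfsg.Agent.TAB.Cov.frL = @g) (@Subtype.mk _ _ (@(fun x0 x1 => @List.rec.{1, 0} ℤ @(fun x2 => ((@List.{0} ℤ) → @x0) → @x0) @(fun x2 => @x2 []) @(fun x2 x3 x4 x5 => @Cfsg.Agent.KOf7d62b5.k40 _ @x2 @(fun x6 => @x4 @(fun x7 => @x5 (@x6 :: @x7)))) @x1)) ?_); rewrite [← Cfsg.Agent.KOf7d62b5.e40]; (try delta Cfsg.Agent.TAB.Cov.frL); (try generalize @Cfsg.Agent.TAB.Cov.frI = g0); rfl') | exact @Cfsg.Agent.TAB.Cov.frL | exact ()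
private theorem _root_.Cfsg.Agent.KOf7d62b5.e41 : (by first | exact @Cfsg.Agent.TAB.Cov.frL = @_root_.Cfsg.Agent.KOf7d62b5.k41 | exact True : Prop) := by first | (delta _root_.Cfsg.Agent.KOf7d62b5.k41; exact @Subtype.property _ (fun g => @Cfsg.Agent.TAB.Cov.frL = @g) _) | rfl | trivial
private noncomputable def _root_.Cfsg.Agent.KOf7d62b5.k42 : type_of% @Int.add := @(letI c0 := @Int.rec.{1}; letI c1 := @Int.ofNat; letI c2 := @Nat.add; letI c3 := @Nat.rec.{1}; letI c4 := @Nat.sub; letI c5 := @Nat.succ; letI c6 := @Int.negSucc; @(fun x0 x1 => @c0 @(fun x2 => ℤ) @(fun x2 => @c0 @(fun x3 => ℤ) @(fun x3 => @c1 (@c2 @x2 @x3)) @(fun x3 => @c3 @(fun x4 => ℤ) (@c1 (@c4 @x2 (@c5 @x3))) @(fun x4 x5 => @c6 @x4) (@c4 (@c5 @x3) @x2)) @x1) @(fun x2 => @c0 @(fun x3 => ℤ) @(fun x3 => @c3 @(fun x4 => ℤ) (@c1 (@c4 @x3 (@c5 @x2))) @(fun x4 x5 => @c6 @x4) (@c4 (@c5 @x2) @x3)) @(fun x3 => @c6 (@c5 (@c2 @x2 @x3))) @x1) @x0))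
private theorem _root_.Cfsg.Agent.KOf7d62b5.e42 : @Int.add = @_root_.Cfsg.Agent.KOf7d62b5.k42 := by delta _root_.Cfsg.Agent.KOf7d62b5.k42; rfl'
private noncomputable def _root_.Cfsg.Agent.KOf7d62b5.k43 : (by first | exact type_of% @Cfsg.Agent.TAB.Cov.Pk.pz | exact Unit : Sort _) := by first | (refine @Subtype.val _ (fun g => @Cfsg.Agent.TAB.Cov.Pk.pz = @g) (@Subtype.mk _ _ (@(letI c0 := @Int.ofNat; @(fun x0 x1 => @List.rec.{1, 0} ℤ @(fun x2 => ℤ) (@c0 (nat_lit 0)) @(fun x2 x3 x4 => @Cfsg.Agent.KOf7d62b5.k42 @x2 (@Cfsg.Agent.KOf7d62b5.k1 (@c0 @x0) @x4)) @x1))) ?_); rewrite [← Cfsg.Agent.KOf7d62b5.e1, ← Cfsg.Agent.KOf7d62b5.e42]; rfl') | exact @Cfsg.Agent.TAB.Cov.Pk.pz | exact ()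
private theorem _root_.Cfsg.Agent.KOf7d62b5.e43 : (by first | exact @Cfsg.Agent.TAB.Cov.Pk.pz = @_root_.Cfsg.Agent.KOf7d62b5.k43 | exact True : Prop) := by first | (delta _root_.Cfsg.Agent.KOf7d62b5.k43; exact @Subtype.property _ (fun g => @Cfsg.Agent.TAB.Cov.Pk.pz = @g) _) | rfl | trivial
private noncomputable def _root_.Cfsg.Agent.KOf7d62b5.k44 : (by first | exact type_of% @Cfsg.Agent.TAB.Eng.allL | exact Unit : Sort _) := by first | (refine @Subtype.val _ (fun g => @Cfsg.Agent.TAB.Eng.allL = @g) (@Subtype.mk _ _ (@(fun x0 x1 x2 => @List.rec.{1, 0} @x0 @(fun x3 => @Bool) @Bool.true @(fun x3 x4 x5 => @Bool.rec.{1} @(fun x6 => @Bool) @Bool.false @x5 (@x1 @x3)) @x2)) ?_); rfl') | exact @Cfsg.Agent.TAB.Eng.allL | exact ()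
private theorem _root_.Cfsg.Agent.KOf7d62b5.e44 : (by first | exact @Cfsg.Agent.TAB.Eng.allL = @_root_.Cfsg.Agent.KOf7d62b5.k44 | exact True : Prop) := by first | (delta _root_.Cfsg.Agent.KOf7d62b5.k44; exact @Subtype.property _ (fun g => @Cfsg.Agent.TAB.Eng.allL = @g) _) | rfl | trivial
private noncomputable def _root_.Cfsg.Agent.KOf7d62b5.k45 : (by first | exact type_of% @Cfsg.Agent.TAB.Cov.Pk.dz | exact Unit : Sort _) := by first | (refine @Subtype.val _ (fun g => @Cfsg.Agent.TAB.Cov.Pk.dz = @g) (@Subtype.mk _ _ (@(letI c0 := @List.rec.{1, 0}; letI c1 := @Int.ofNat; @(fun x0 => @c0 ℤ @(fun x1 => (@List.{0} ℤ) → ℤ) @(fun x1 => @c1 (nat_lit 0)) @(fun x1 x2 x3 x4 => @c0 ℤ @(fun x5 => ℤ) (@c1 (nat_lit 0)) @(fun x5 x6 x7 => @Int.rec.{1} @(fun x8 => ℤ) @(fun x8 => @Nat.rec.{1} @(fun x9 => ℤ) (@x3 @x6) @(fun x9 x10 => @Cfsg.Agent.KOf7d62b5.k42 (@Cfsg.Agent.KOf7d62b5.k1 @x1 @x5) (@x3 @x6)) @x8) @(fun x8 => @Cfsg.Agent.KOf7d62b5.k42 (@Cfsg.Agent.KOf7d62b5.k1 @x1 @x5) (@x3 @x6)) @x5) @x4) @x0)))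 ?_); rewrite [← Cfsg.Agent.KOf7d62b5.e1, ← Cfsg.Agent.KOf7d62b5.e42]; rfl') | exact @Cfsg.Agent.TAB.Cov.Pk.dz | exact ()
private theorem _root_.Cfsg.Agent.KOf7d62b5.e45 : (by first | exact @Cfsg.Agent.TAB.Cov.Pk.dz = @_root_.Cfsg.Agent.KOf7d62b5.k45 | exact True : Prop) := by first | (delta _root_.Cfsg.Agent.KOf7d62b5.k45; exact @Subtype.property _ (fun g => @Cfsg.Agent.TAB.Cov.Pk.dz = @g) _) | rfl | trivial
private noncomputable def _root_.Cfsg.Agent.KOf7d62b5.k46 : (by first | exact type_of% @Cfsg.Agent.TAB.Cov.Pk.sa | exact Unit : Sort _) := by first | (refine @Subtype.val _ (fun g => @Cfsg.Agent.TAB.Cov.Pk.sa = @g) (@Subtype.mk _ _ (@(fun x0 => @List.rec.{1, 0} ℤ @(fun x1 => ℕ) (nat_lit 0) @(fun x1 x2 x3 => @Nat.add (@Int.rec.{1} @(fun x4 => ℕ) @(fun x4 => @x4) @(fun x4 => @Nat.succ @x4) @x1) @x3) @x0)) ?_); rfl') | exact @Cfsg.Agent.TAB.Cov.Pk.sa | exact ()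
private theorem _root_.Cfsg.Agent.KOf7d62b5.e46 : (by first | exact @Cfsg.Agent.TAB.Cov.Pk.sa = @_root_.Cfsg.Agent.KOf7d62b5.k46 | exact True : Prop) := by first | (delta _root_.Cfsg.Agent.KOf7d62b5.k46; exact @Subtype.property _ (fun g => @Cfsg.Agent.TAB.Cov.Pk.sa = @g) _) | rfl | trivial
private noncomputable def _root_.Cfsg.Agent.KOf7d62b5.k47.{ku0} : type_of% @List.length.{ku0} := @(fun x0 x1 => @List.rec.{1, ku0} @x0 @(fun x2 => ℕ) (nat_lit 0) @(fun x2 x3 x4 => @Nat.add @x4 (nat_lit 1)) @x1)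
private theorem _root_.Cfsg.Agent.KOf7d62b5.e47.{ku0} : @List.length.{ku0} = @_root_.Cfsg.Agent.KOf7d62b5.k47.{ku0} := by delta _root_.Cfsg.Agent.KOf7d62b5.k47; funext a0 a1; refine (_root_.Cfsg.Agent.KOf7d62b5.e9 (fun a1 => @List.length.{ku0} a0 a1) ?_ (fun c0 c1 => ?_) a1 :) <;> (rfl')
private noncomputable def _root_.Cfsg.Agent.KOf7d62b5.k48 : (by first | exact type_of% @Cfsg.Agent.TAB.Cov.Pk.bd | exact Unit : Sort _) := by first | (refine @Subtype.val _ (fun g => @Cfsg.Agent.TAB.Cov.Pk.bd = @g) (@Subtype.mk _ _ (@(fun x0 x1 x2 => @Bool.rec.{1} @(fun x3 => @Bool) @Bool.false (@Cfsg.Agent.KOf7d62b5.k44 _ @(fun x3 => @Nat.ble (@Int.rec.{1} @(fun x4 => ℕ) @(fun x4 => @x4) @(fun x4 => @Nat.succ @x4) @x3) @x1) @x2) (@Nat.beq (@Cfsg.Agent.KOf7d62b5.k47.{0} _ @x2) @x0))) ?_); rewrite [← Cfsg.Agent.KOf7d62b5.e47.{0}, ← Cfsg.Agent.KOf7d62b5.e44]; (try delta Cfsg.Agent.TAB.Cov.Pk.bd); (try generalize @Cfsg.Agent.TAB.Eng.allL = g0); rfl') | exact @Cfsg.Agent.TAB.Cov.Pk.bd | exact ()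
private theorem _root_.Cfsg.Agent.KOf7d62b5.e48 : (by first | exact @Cfsg.Agent.TAB.Cov.Pk.bd = @_root_.Cfsg.Agent.KOf7d62b5.k48 | exact True : Prop) := by first | (delta _root_.Cfsg.Agent.KOf7d62b5.k48; exact @Subtype.property _ (fun g => @Cfsg.Agent.TAB.Cov.Pk.bd = @g) _) | rfl | trivial
private noncomputable def _root_.Cfsg.Agent.KOf7d62b5.k49 : (by first | exact type_of% @Cfsg.Agent.TAB.Cov.Pk.linF | exact Unit : Sort _) := by first | (refine @Subtype.val _ (fun g => @Cfsg.Agent.TAB.Cov.Pk.linF = @g) (@Subtype.mk _ _ (@(fun x0 x1 x2 x3 x4 x5 x6 x7 x8 => @Cfsg.Agent.KOf7d62b5.k39 _ @x1 @(fun x9 => @Cfsg.Agent.KOf7d62b5.k39 _ @x3 @(fun x10 => @Cfsg.Agent.KOf7d62b5.k39 _ @x4 @(fun x11 => @Bool.rec.{1} @(fun x12 => @Bool) @Bool.false (@Cfsg.Agent.KOf7d62b5.k41 _ (@Cfsg.Agent.KOf7d62b5.k35.{0, 0} _ _ (@Cfsg.Agent.KOf7d62b5.k43 @x9) @x5) @(fun x12 => @Cfsg.Agent.KOf7d62b5.k44 _ @(fun x13 => @Bool.rec.{1} @(fun x14 => @Bool) @Bool.false (@Decidable.rec.{1} _ @(fun x14 => @Bool) @(fun x14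 => @Bool.false) @(fun x14 => @Bool.true) (@Cfsg.Agent.KOf7d62b5.k27 (@Cfsg.Agent.KOf7d62b5.k45 @x12 (@x6 @x13)) (@Cfsg.Agent.KOf7d62b5.k43 @x9 (@x7 @x13)))) (@Bool.rec.{1} @(fun x14 => @Bool) @Bool.false (@Nat.ble (@Nat.succ (@Nat.add (@Nat.mul (@Cfsg.Agent.KOf7d62b5.k46 (@x6 @x13)) @x10) @x11)) @x9) (@Bool.rec.{1} @(fun x14 => @Bool) @Bool.false (@Cfsg.Agent.KOf7d62b5.k48 @x2 @x11 (@x7 @x13)) (@Nat.ble (nat_lit 1) (@Cfsg.Agent.KOf7d62b5.k47.{0} _ (@x6 @x13)))))) @x8)) (@Bool.rec.{1} @(fun x12 => @Bool) @Bool.false (@Cfsg.Agent.KOf7d62b5.k44 _ (@Cfsg.Agent.KOf7d62b5.k48 @x2 @x10) @x5) (@Nat.ble (nat_lit 1) (@Cfsg.Agent.KOf7d62b5.k47.{0} _ @x5)))))))) ?_); rewrite [← Cfsg.Agent.KOf7d62b5.e47.{0}, ← Cfsg.Agent.KOf7d62b5.e48, ← Cfsg.Agent.KOf7d62b5.e46, ← Cfsg.Agent.KOf7d62b5.e45, ← Cfsg.Agent.KOf7d62b5.e27, ← Cfsg.Agent.KOf7d62b5.e44, ← Cfsg.Agent.KOf7d62b5.e43, ← Cfsg.Agent.KOf7d62b5.e35.{0, 0}, ← Cfsg.Agent.KOf7d62b5.e41, ← Cfsg.Agent.KOf7d62b5.e39]; (try delta Cfsg.Agent.TAB.Cov.Pk.linF);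 (try generalize @Cfsg.Agent.TAB.Eng.frc = g0); (try generalize @Cfsg.Agent.TAB.Cov.frL = g1); (try generalize @Cfsg.Agent.TAB.Cov.Pk.pz = g2); (try generalize @Cfsg.Agent.TAB.Eng.allL = g3); (try generalize @Cfsg.Agent.TAB.Cov.Pk.dz = g4); (try generalize @Cfsg.Agent.TAB.Cov.Pk.sa = g5); (try generalize @Cfsg.Agent.TAB.Cov.Pk.bd = g6); rfl') | exact @Cfsg.Agent.TAB.Cov.Pk.linF | exact ()
private theorem _root_.Cfsg.Agent.KOf7d62b5.e49 : (by first | exact @Cfsg.Agent.TAB.Cov.Pk.linF = @_root_.Cfsg.Agent.KOf7d62b5.k49 | exact True : Prop) := by first | (delta _root_.Cfsg.Agent.KOf7d62b5.k49; exact @Subtype.property _ (fun g => @Cfsg.Agent.TAB.Cov.Pk.linF = @g) _) | rfl | trivial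

theorem mc_chk : allL (fun x => frL (lin x.2 (lv.map Lev.v ++ inds.map Prod.snd)) fun k => decide (k = x.1.v)) mc =
    true :=
  Pk.allL_of fun a ha => (frL_eq _ _).trans (decide_eq_true (Pk.linF_spec (3 ^ 60) 59 (2 ^ 50) (2 ^ 50) Prod.snd
    (fun a => a.1.v) (by (first | (delta Cfsg.Agent.TAB.F22.Cv.lv; rewrite [Cfsg.Agent.KOf7d62b5.e38, Cfsg.Agent.KOf7d62b5.e36, Cfsg.Agent.KOf7d62b5.e49, Cfsg.Agent.KOf7d62b5.e35.{0, 0}]; decide +kernel) | decide +kernel)) a ha))

private noncomputable def _root_.Cfsg.Agent.KOf7d62b5.k50 : (by first | exact type_of% @Cfsg.Agent.TAB.Cov.Pk.off | exact Unit : Sort _) := by first | (refine @Subtype.val _ (fun g => @Cfsg.Agent.TAB.Cov.Pk.off = @g) (@Subtype.mk _ _ (@(fun x0 x1 x2 => @Nat.rec.{1} @(fun x3 => ℕ) (nat_lit 0) @(fun x3 x4 => @Nat.add @x1 (@Nat.mul @x0 @x4)) @x2)) ?_); rfl') | exact @Cfsg.Agent.TAB.Cov.Pk.off | exact ()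
private theorem _root_.Cfsg.Agent.KOf7d62b5.e50 : (by first | exact @Cfsg.Agent.TAB.Cov.Pk.off = @_root_.Cfsg.Agent.KOf7d62b5.k50 | exact True : Prop) := by first | (delta _root_.Cfsg.Agent.KOf7d62b5.k50; exact @Subtype.property _ (fun g => @Cfsg.Agent.TAB.Cov.Pk.off = @g) _) | rfl | trivial
private noncomputable def _root_.Cfsg.Agent.KOf7d62b5.k51 : (by first | exact type_of% @Cfsg.Agent.TAB.Cov.Pk.unp | exact Unit : Sort _) := by first | (refine @Subtype.val _ (fun g => @Cfsg.Agent.TAB.Cov.Pk.unp = @g) (@Subtype.mk _ _ (@(letI c0 := @Nat.rec.{1}; letI c1 := @Nat.sub; letI c2 := @Nat.mod; @(fun x0 x1 x2 => @c0 @(fun x3 => ℕ → @List.{0} ℤ) @(fun x3 => []) @(fun x3 x4 x5 => (@c0 @(fun x6 => ℤ) (@Int.ofNat (@c1 (@c2 @x5 @x0) @x1)) @(fun x6 x7 => @Int.negSucc @x6) (@c1 @x1 (@c2 @x5 @x0))) :: (@x4 (@Nat.div @x5 @x0))) @x2))) ?_); rfl') | exact @Cfsg.Agent.TAB.Cov.Pk.unp | exact ()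
private theorem _root_.Cfsg.Agent.KOf7d62b5.e51 : (by first | exact @Cfsg.Agent.TAB.Cov.Pk.unp = @_root_.Cfsg.Agent.KOf7d62b5.k51 | exact True : Prop) := by first | (delta _root_.Cfsg.Agent.KOf7d62b5.k51; exact @Subtype.property _ (fun g => @Cfsg.Agent.TAB.Cov.Pk.unp = @g) _) | rfl | trivial
private noncomputable def _root_.Cfsg.Agent.KOf7d62b5.k52 : (by first | exact type_of% @Cfsg.Agent.TAB.Cov.Pk.get | exact Unit : Sort _) := by first | (refine @Subtype.val _ (fun g => @Cfsg.Agent.TAB.Cov.Pk.get = @g) (@Subtype.mk _ _ (@(letI c0 := @Bool.false; @(fun x0 x1 x2 x3 x4 x5 => @Cfsg.Agent.KOf7d62b5.k40 _ @x4 @(fun x6 => @Cfsg.Agent.KOf7d62b5.k41 _ (@Cfsg.Agent.KOf7d62b5.k51 @x0 @x1 @x2 (@Int.rec.{1} @(fun x7 => ℕ) @(fun x7 => @x7) @(fun x7 => nat_lit 0) (@Cfsg.Agent.KOf7d62b5.k42 @x6 (@Int.ofNat @x3)))) @(fun x7 => @Bool.rec.{1} @(fun x8 => @Bool) @c0 (@x5 @x7) (@Decidable.rec.{1} _ @(fun x8 => @Bool) @(fun x8 => @c0) @(fun x8 => @Bool.true) (@Cfsg.Agent.KOf7d62b5.k27 (@Cfsg.Agent.KOf7d62b5.k43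 @x0 @x7) @x6))))))) ?_); rewrite [← Cfsg.Agent.KOf7d62b5.e43, ← Cfsg.Agent.KOf7d62b5.e27, ← Cfsg.Agent.KOf7d62b5.e42, ← Cfsg.Agent.KOf7d62b5.e51, ← Cfsg.Agent.KOf7d62b5.e41, ← Cfsg.Agent.KOf7d62b5.e40]; (try delta Cfsg.Agent.TAB.Cov.Pk.get); (try generalize @Cfsg.Agent.TAB.Cov.frI = g0); (try generalize @Cfsg.Agent.TAB.Cov.frL = g1); (try generalize @Cfsg.Agent.TAB.Cov.Pk.unp = g2); (try generalize @Cfsg.Agent.TAB.Cov.Pk.pz = g3); rfl') | exact @Cfsg.Agent.TAB.Cov.Pk.get | exact ()
private theorem _root_.Cfsg.Agent.KOf7d62b5.e52 : (by first | exact @Cfsg.Agent.TAB.Cov.Pk.get = @_root_.Cfsg.Agent.KOf7d62b5.k52 | exact True : Prop) := by first | (delta _root_.Cfsg.Agent.KOf7d62b5.k52; exact @Subtype.property _ (fun g => @Cfsg.Agent.TAB.Cov.Pk.get = @g) _) | rfl | trivial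
private noncomputable def _root_.Cfsg.Agent.KOf7d62b5.k53 : (by first | exact type_of% @Cfsg.Agent.TAB.Cov.Pk.ml | exact Unit : Sort _) := by first | (refine @Subtype.val _ (fun g => @Cfsg.Agent.TAB.Cov.Pk.ml = @g) (@Subtype.mk _ _ (@(letI c0 := @List.rec.{1, 0}; @(fun x0 => @c0 ℕ @(fun x1 => (@List.{0} ℤ) → @List.{0} ℤ) @(fun x1 => []) @(fun x1 x2 x3 x4 => @c0 ℤ @(fun x5 => @List.{0} ℤ) [] @(fun x5 x6 x7 => (@Cfsg.Agent.KOf7d62b5.k1 (@Int.ofNat @x1) @x5) :: (@x3 @x6)) @x4) @x0))) ?_); rewrite [← Cfsg.Agent.KOf7d62b5.e1]; rfl') | exact @Cfsg.Agent.TAB.Cov.Pk.ml | exact ()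
private theorem _root_.Cfsg.Agent.KOf7d62b5.e53 : (by first | exact @Cfsg.Agent.TAB.Cov.Pk.ml = @_root_.Cfsg.Agent.KOf7d62b5.k53 | exact True : Prop) := by first | (delta _root_.Cfsg.Agent.KOf7d62b5.k53; exact @Subtype.property _ (fun g => @Cfsg.Agent.TAB.Cov.Pk.ml = @g) _) | rfl | trivial
private noncomputable def _root_.Cfsg.Agent.KOf7d62b5.k54 : (by first | exact type_of% @Cfsg.Agent.TAB.Eng.addL | exact Unit : Sort _) := by first | (refine @Subtype.val _ (fun g => @Cfsg.Agent.TAB.Eng.addL = @g) (@Subtype.mk _ _ (@(letI c0 := @List.rec.{1, 0}; @(fun x0 => @c0 ℤ @(fun x1 => (@List.{0} ℤ) → @List.{0} ℤ) @(fun x1 => @x1) @(fun x1 x2 x3 x4 => @c0 ℤ @(fun x5 => @List.{0} ℤ) (@x1 :: @x2) @(fun x5 x6 x7 => (@Cfsg.Agent.KOf7d62b5.k42 @x1 @x5) :: (@x3 @x6)) @x4) @x0))) ?_); rewrite [← Cfsg.Agent.KOf7d62b5.e42]; rfl') | exact @Cfsg.Agent.TAB.Eng.addL | exact ()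
private theorem _root_.Cfsg.Agent.KOf7d62b5.e54 : (by first | exact @Cfsg.Agent.TAB.Eng.addL = @_root_.Cfsg.Agent.KOf7d62b5.k54 | exact True : Prop) := by first | (delta _root_.Cfsg.Agent.KOf7d62b5.k54; exact @Subtype.property _ (fun g => @Cfsg.Agent.TAB.Eng.addL = @g) _) | rfl | trivial
private noncomputable def _root_.Cfsg.Agent.KOf7d62b5.k55 : (by first | exact type_of% @Cfsg.Agent.TAB.Cov.Pk.okF | exact Unit : Sort _) := by first | (refine @Subtype.val _ (fun g => @Cfsg.Agent.TAB.Cov.Pk.okF = @g) (@Subtype.mk _ _ (@(letI c0 := @Bool.true; letI c1 := @Cfsg.Agent.TAB.Cov.Lev.v; letI c2 := @Cfsg.Agent.KOf7d62b5.k45; letI c3 := @Int.ofNat; letI c4 := @Cfsg.Agent.TAB.Cov.Lev.p; letI c5 := @Cfsg.Agent.TAB.Cov.Lev.r; letI c6 := @Bool.rec.{1}; letI c7 := @Bool.false; letI c8 := @Decidable.rec.{1}; letI c9 := @Cfsg.Agent.TAB.Cov.Lev.n; letI c10 := @Nat.ble; letI c11 := @Nat.succ; @(fun x0 x1 x2 x3 x4 x5 x6 x7 => @List.rec.{1, 0} @Cfsg.Agent.TAB.Cov.Lev @(fun x8 => (@List.{0} ℤ) → (@List.{0}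 ℤ) → @Bool) @(fun x8 x9 => @c0) @(fun x8 x9 x10 x11 x12 => @Cfsg.Agent.KOf7d62b5.k40 _ (@Cfsg.Agent.KOf7d62b5.k43 @x1 (@c1 @x8)) @(fun x13 => @Cfsg.Agent.KOf7d62b5.k52 @x1 @x2 @x3 @x4 (@c2 (@x13 :: @x11) ((@c3 (@c4 @x8)) :: (@c5 @x8))) @(fun x14 => @Cfsg.Agent.KOf7d62b5.k41 _ (@Cfsg.Agent.KOf7d62b5.k53 @x0 @x14) @(fun x15 => @c6 @(fun x16 => @Bool) @c7 (@Cfsg.Agent.KOf7d62b5.k41 _ (@Cfsg.Agent.KOf7d62b5.k54 @x15 (@Cfsg.Agent.KOf7d62b5.k35.{0, 0} _ _ (@Cfsg.Agent.KOf7d62b5.k1 (@c3 @x6)) @x12)) @(fun x16 => @x10 (@x13 :: @x11) @x16)) (@c6 @(fun x16 => @Bool) @c7 (@c8 _ @(fun x16 => @Bool) @(fun x16 => @c7) @(fun x16 => @c0) (@Cfsg.Agent.KOf7d62b5.k27 (@c2 @x12 @x14) (@c3 (nat_lit 0)))) (@c6 @(fun x16 => @Bool) @c7 (@c8 _ @(fun x16 => @Bool) @(fun x16 => @c7) @(fun x16 => @c0) (@Cfsg.Agent.KOf7d62b5.k27 (@c2 @x15 @x14) (@c3 (@c9 @x8)))) (@c6 @(fun x16 => @Bool) @c7 (@c10 (@c11 (@Nat.mul (@Cfsg.Agent.KOf7d62b5.k46 ((@c3 (@c4 @x8)) :: (@c5 @x8))) @x5)) @x2) (@c6 @(fun x16 => @Bool) @c7 (@Cfsg.Agent.KOf7d62b5.k48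 @x3 @x5 (@c1 @x8)) (@c6 @(fun x16 => @Bool) @c7 (@c10 (@c11 (@c9 @x8)) @x6) (@c6 @(fun x16 => @Bool) @c7 (@c10 (nat_lit 1) (@c9 @x8)) (@c10 (nat_lit 1) (@c4 @x8)))))))))))) @x7))) ?_); rewrite [← Cfsg.Agent.KOf7d62b5.e48, ← Cfsg.Agent.KOf7d62b5.e46, ← Cfsg.Agent.KOf7d62b5.e27, ← Cfsg.Agent.KOf7d62b5.e1, ← Cfsg.Agent.KOf7d62b5.e35.{0, 0}, ← Cfsg.Agent.KOf7d62b5.e54, ← Cfsg.Agent.KOf7d62b5.e53, ← Cfsg.Agent.KOf7d62b5.e41, ← Cfsg.Agent.KOf7d62b5.e45, ← Cfsg.Agent.KOf7d62b5.e52, ← Cfsg.Agent.KOf7d62b5.e43, ← Cfsg.Agent.KOf7d62b5.e40]; (try delta Cfsg.Agent.TAB.Cov.Pk.okF); (try generalize @Cfsg.Agent.TAB.Cov.frI = g0); (try generalize @Cfsg.Agent.TAB.Cov.Pk.pz = g1); (try generalize @Cfsg.Agent.TAB.Cov.Pk.get = g2); (try generalize @Cfsg.Agent.TAB.Cov.Pk.dz = g3); (try generalize @Cfsg.Agent.TAB.Cov.frL = g4); (try generalize @Cfsg.Agent.TAB.Cov.Pk.ml = g5); (try generalize @Cfsg.Agent.TAB.Eng.addL = g6); (try generalize @Cfsg.Agent.TAB.Cov.Pk.sa = g7); (try generalize @Cfsg.Agent.TAB.Cov.Pk.bd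 = g8); rfl') | exact @Cfsg.Agent.TAB.Cov.Pk.okF | exact ()
private theorem _root_.Cfsg.Agent.KOf7d62b5.e55 : (by first | exact @Cfsg.Agent.TAB.Cov.Pk.okF = @_root_.Cfsg.Agent.KOf7d62b5.k55 | exact True : Prop) := by first | (delta _root_.Cfsg.Agent.KOf7d62b5.k55; exact @Subtype.property _ (fun g => @Cfsg.Agent.TAB.Cov.Pk.okF = @g) _) | rfl | trivial
private noncomputable def _root_.Cfsg.Agent.KOf7d62b5.k56 : (by first | exact type_of% @Cfsg.Agent.TAB.Eng.ipL | exact Unit : Sort _) := by first | (refine @Subtype.val _ (fun g => @Cfsg.Agent.TAB.Eng.ipL = @g) (@Subtype.mk _ _ (@(letI c0 := @List.rec.{1, 0}; letI c1 := @Int.ofNat; @(fun x0 => @c0 ℕ @(fun x1 => (@List.{0} ℤ) → (@List.{0} ℤ) → ℤ) @(fun x1 x2 => @c1 (nat_lit 0)) @(fun x1 x2 x3 x4 x5 => @c0 ℤ @(fun x6 => ℤ) (@c1 (nat_lit 0)) @(fun x6 x7 x8 => @c0 ℤ @(fun x9 => ℤ) (@c1 (nat_lit 0)) @(fun x9 x10 x11 => @Cfsg.Agent.KOf7d62b5.k42 (@Cfsg.Agent.KOf7d62b5.k1 (@c1 @x1) (@Cfsg.Agent.KOf7d62b5.k1 @x6 @x9)) (@x3 @x7 @x10)) @x5) @x4) @x0)))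 ?_); rewrite [← Cfsg.Agent.KOf7d62b5.e1, ← Cfsg.Agent.KOf7d62b5.e42]; rfl') | exact @Cfsg.Agent.TAB.Eng.ipL | exact ()
private theorem _root_.Cfsg.Agent.KOf7d62b5.e56 : (by first | exact @Cfsg.Agent.TAB.Eng.ipL = @_root_.Cfsg.Agent.KOf7d62b5.k56 | exact True : Prop) := by first | (delta _root_.Cfsg.Agent.KOf7d62b5.k56; exact @Subtype.property _ (fun g => @Cfsg.Agent.TAB.Eng.ipL = @g) _) | rfl | trivial
private noncomputable def _root_.Cfsg.Agent.KOf7d62b5.k57 : (by first | exact type_of% @Cfsg.Agent.TAB.Cov.Pk.okV | exact Unit : Sort _) := by first | (refine @Subtype.val _ (fun g => @Cfsg.Agent.TAB.Cov.Pk.okV = @g) (@Subtype.mk _ _ (@(letI c0 := @Cfsg.Agent.KOf7d62b5.k39; letI c1 := @Bool.rec.{1}; letI c2 := @Bool.false; letI c3 := @Int.rec.{1}; letI c4 := @Int.ofNat; letI c5 := @Int.add; @(fun x0 x1 x2 x3 x4 x5 x6 => @c0 _ @x1 @(fun x7 => @c0 _ (@Nat.add @x7 @x7) @(fun x8 => @c0 _ @x3 @(fun x9 => @c0 _ @x4 @(fun x10 => @c0 _ (@Cfsg.Agent.KOf7d62b5.k50 @x8 @x7 @x2) @(fun x11 => @c1 @(fun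 x12 => @Bool) @c2 (@Cfsg.Agent.KOf7d62b5.k55 @x0 @x8 @x7 @x2 @x11 @x9 @x10 @x5 ((@Cfsg.Agent.KOf7d62b5.k43 @x8 @x6) :: []) (@Cfsg.Agent.KOf7d62b5.k53 @x0 @x6)) (@c1 @(fun x12 => @Bool) @c2 (@Decidable.rec.{1} _ @(fun x12 => @Bool) @(fun x12 => @c2) @(fun x12 => @Bool.true) (@c3 @(fun x12 => @Decidable (@Int.NonNeg @x12)) @(fun x12 => @Decidable.isTrue _ (@Int.NonNeg.mk @x12)) @(fun x12 => @Decidable.isFalse _ (@Int.decNonneg._proof_1 @x12)) (@c5 (@c4 @x10) (@c3 @(fun x12 => ℤ) @(fun x12 => @Nat.rec.{1} @(fun x13 => ℤ) (@c4 (nat_lit 0)) @(fun x13 x14 => @Int.negSucc @x13) @x12) @(fun x12 => @c4 (@Nat.succ @x12)) (@c5 (@Cfsg.Agent.KOf7d62b5.k56 @x0 @x6 @x6) (@c4 (nat_lit 1))))))) (@Cfsg.Agent.KOf7d62b5.k48 @x2 @x9 @x6)))))))))) ?_); rewrite [← Cfsg.Agent.KOf7d62b5.e48, ← Cfsg.Agent.KOf7d62b5.e56, ← Cfsg.Agent.KOf7d62b5.e53, ← Cfsg.Agent.KOf7d62b5.e43, ← Cfsg.Agent.KOf7d62b5.e55, ← Cfsg.Agent.KOf7d62b5.e50, ← Cfsg.Agent.KOf7d62b5.e39]; (try delta Cfsg.Agent.TAB.Cov.Pk.okV); (try generalize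 @Cfsg.Agent.TAB.Eng.frc = g0); (try generalize @Cfsg.Agent.TAB.Cov.Pk.off = g1); (try generalize @Cfsg.Agent.TAB.Cov.Pk.okF = g2); (try generalize @Cfsg.Agent.TAB.Cov.Pk.pz = g3); (try generalize @Cfsg.Agent.TAB.Cov.Pk.ml = g4); (try generalize @Cfsg.Agent.TAB.Eng.ipL = g5); (try generalize @Cfsg.Agent.TAB.Cov.Pk.bd = g6); rfl') | exact @Cfsg.Agent.TAB.Cov.Pk.okV | exact ()
private theorem _root_.Cfsg.Agent.KOf7d62b5.e57 : (by first | exact @Cfsg.Agent.TAB.Cov.Pk.okV = @_root_.Cfsg.Agent.KOf7d62b5.k57 | exact True : Prop) := by first | (delta _root_.Cfsg.Agent.KOf7d62b5.k57; exact @Subtype.property _ (fun g => @Cfsg.Agent.TAB.Cov.Pk.okV = @g) _) | rfl | trivial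

theorem mv_chk : okLev dat mv [vR] [vR] = true := Pk.okV_spec (3 ^ 36) 59 (2 ^ 26) (3 ^ 60) (by (first | (delta Cfsg.Agent.MK.S7.X22.mv; rewrite [Cfsg.Agent.KOf7d62b5.e36, Cfsg.Agent.KOf7d62b5.e57, Cfsg.Agent.KOf7d62b5.e35.{0, 0}]; decide +kernel) | decide +kernel))

theorem vR_chk : ∀ t < 59, nth vR t = if t = 49 then 16 else 0 := by decide +kernel

private noncomputable def _root_.Cfsg.Agent.KOf7d62b5.k34.{ku0} : type_of% @ite.{ku0} := @(fun x0 x1 x2 x3 x4 => @Decidable.rec.{ku0} _ @(fun x5 => @x0) @(fun x5 => @x4) @(fun x5 => @x3) @x2)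
private theorem _root_.Cfsg.Agent.KOf7d62b5.e34.{ku0} : @ite.{ku0} = @_root_.Cfsg.Agent.KOf7d62b5.k34.{ku0} := by delta _root_.Cfsg.Agent.KOf7d62b5.k34; rfl'
private noncomputable def _root_.Cfsg.Agent.KOf7d62b5.k58s : (by first | exact Subtype (fun g => @HSub.hSub.{0, 0, 0} (ℤ) (ℤ) (ℤ) _ = @g) | exact Unit : Sort _) := by first | (refine @Subtype.mk _ _ (@(letI c0 := @Int.ofNat; @(fun x0 x1 => @Cfsg.Agent.KOf7d62b5.k42 @x0 (@Int.rec.{1} @(fun x2 => ℤ) @(fun x2 => @Nat.rec.{1} @(fun x3 => ℤ) (@c0 (nat_lit 0)) @(fun x3 x4 => @Int.negSucc @x3) @x2) @(fun x2 => @c0 (@Nat.succ @x2)) @x1)))) ?_; rewrite [← Cfsg.Agent.KOf7d62b5.e42]; rfl') | exact ⟨_, rfl⟩ | exact ()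
private noncomputable def _root_.Cfsg.Agent.KOf7d62b5.k58 : (by first | exact type_of% (@Subtype.val _ _ _root_.Cfsg.Agent.KOf7d62b5.k58s) | exact Unit : Sort _) := by first | exact @Subtype.val _ _ _root_.Cfsg.Agent.KOf7d62b5.k58s | exact ()
private theorem _root_.Cfsg.Agent.KOf7d62b5.e58 : (by first | exact type_of% (show _ = @_root_.Cfsg.Agent.KOf7d62b5.k58 from @Subtype.property _ _ _root_.Cfsg.Agent.KOf7d62b5.k58s) | exact True : Prop) := by first | exact @Subtype.property _ _ _root_.Cfsg.Agent.KOf7d62b5.k58s | trivial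
private noncomputable def _root_.Cfsg.Agent.KOf7d62b5.k59 : (by first | exact type_of% @Cfsg.Agent.TAB.Cov.lin | exact Unit : Sort _) := by first | (refine @Subtype.val _ (fun g => @Cfsg.Agent.TAB.Cov.lin = @g) (@Subtype.mk _ _ (@(letI c0 := @List.rec.{1, 0}; @(fun x0 => @c0 ℤ @(fun x1 => (@List.{0} (@List.{0} ℤ)) → @List.{0} ℤ) @(fun x1 => []) @(fun x1 x2 x3 x4 => @c0 (@List.{0} ℤ) @(fun x5 => @List.{0} ℤ) [] @(fun x5 x6 x7 => @Cfsg.Agent.KOf7d62b5.k54 (@Cfsg.Agent.KOf7d62b5.k35.{0, 0} _ _ (@Cfsg.Agent.KOf7d62b5.k1 @x1) @x5) (@x3 @x6)) @x4) @x0))) ?_); rewrite [← Cfsg.Agent.KOf7d62b5.e1, ← Cfsg.Agent.KOf7d62b5.e35.{0, 0}, ← Cfsg.Agent.KOf7d62b5.e54]; (try delta Cfsg.Agent.TAB.Cov.lin); (try generalize @Cfsg.Agent.TAB.Eng.addL = g0); rfl') | exact @Cfsg.Agent.TAB.Cov.lin | exact ()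
private theorem _root_.Cfsg.Agent.KOf7d62b5.e59 : (by first | exact @Cfsg.Agent.TAB.Cov.lin = @_root_.Cfsg.Agent.KOf7d62b5.k59 | exact True : Prop) := by first | (delta _root_.Cfsg.Agent.KOf7d62b5.k59; exact @Subtype.property _ (fun g => @Cfsg.Agent.TAB.Cov.lin = @g) _) | rfl | trivial

theorem cP_chk : ∀ t < 59, 2 * nth (lin cP (rowA ++ rowB)) t = (if t = 0 then (dat.N : ℤ) else 0) - nth vR t := by
  (first | (refine of_decide_eq_true ?_; rewrite [Cfsg.Agent.KOf7d62b5.e38, Cfsg.Agent.KOf7d62b5.e2, Cfsg.Agent.KOf7d62b5.e58, Cfsg.Agent.KOf7d62b5.e3, Cfsg.Agent.KOf7d62b5.e8, Cfsg.Agent.KOf7d62b5.e22, Cfsg.Agent.KOf7d62b5.e28, Cfsg.Agent.KOf7d62b5.e29, Cfsg.Agent.KOf7d62b5.e59, Cfsg.Agent.KOf7d62b5.e34.{1}, Cfsg.Agent.KOf7d62b5.e16]; decide +kernel) | decide +kernel)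

theorem dfs_chk : ∀ r ∈ [2, 3, 4, -2, -3, -4],
    dfs (fun _ _ => false) (1000000 * dat.N) 5 mv [r] (62500 * (16 - r ^ 2).toNat) = true := by
  have h : ∀ r ∈ ([2, 3, 4, -2, -3, -4] : List ℤ), Pk.fastA (fun _ _ => false) (3 ^ 40) 5 (2 ^ 28)
    (1000000 * dat.N) 5 mv [r] (62500 * (16 - r ^ 2).toNat) = true := by decide +kernel
  exact fun r hr => Pk.fastA_spec (h r hr)

end Cfsg.Agent.MK.S7.X22
end

-- part: MK/S7/X22
section
prune_inst 0x41000000000000000000000000000000000000000000000000000000000000000000000000000000000000000000000000000000000000000000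
set_option linter.all false
open scoped Cfsg.Agent.FastGrp

/-!
# MK, `3.Fi22` : sixteen faithful characters of odd degree (helper16)

Let `r ψ` be the mean value of `ψ` on the elements of order `16`.  Then `r ψ` is an integer of the parity of the degree,
the squares add up to `16`, and the enumeration of the short vectors of the dual lattice excludes `|r ψ| ≥ 2`.
-/

set_option autoImplicit false
set_option maxRecDepth 100000
set_option exponentiation.threshold 5000

namespace Cfsg.Agent.MK.S7.X22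

open Cfsg Finset Cfsg.Agent.TAB.Cov Cfsg.Agent.TAB.Eng Cfsg.Agent.TAB.F22 Cfsg.Agent.TAB.F22.Cv Cfsg.Agent.ODD.Red
open Cfsg.Agent.Characters Cfsg.Agent.Characters.Core Cfsg.Agent.Characters.Brauer Cfsg.Agent.H139.Cusp
open Cfsg.Agent.H494.F22 (A rho rho_injective exists_aut tau tau_inv tau_sq tau_mem_A)
open scoped ComplexConjugate

theorem exists_al : ∃ α : MulAut Spor.Fi22, (∀ g, ty (α g) = ty g) ∧ (∀ g, α (α g) = g) ∧
    ∀ g a, ty g = ty a → ∃ n, g = n * a * n⁻¹ ∨ g = n * α a * n⁻¹ := by
  obtain ⟨α, hα⟩ := exists_aut tau_mem_A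
  refine ⟨α, fun g => by rw [ty, ty, fam_conj tau_mem_A (hα g)], fun g => rho_injective ?_, fun g a h => ?_⟩
  · rw [hα, hα, tau_inv, ← mul_assoc, ← mul_assoc, tau_sq, one_mul, mul_assoc, tau_sq, mul_one]
  obtain ⟨-, b, hb, e⟩ := fam_spec g
  obtain ⟨-, c, hc, e'⟩ := fam_spec a
  rw [((_root_.Cfsg.Agent.TAB.F22.ty_iff (ty_lt a)).1 h).trans ((_root_.Cfsg.Agent.TAB.F22.ty_iff (ty_lt a)).1 rfl).symm] at e
  have h2 : rho g = b * c⁻¹ * rho a * (b * c⁻¹)⁻¹ := by
    rw [e, e']
    group
  rcases H878.EPX.FiK.A_le (A.mul_mem hb (A.inv_mem hc)) with ⟨n, hn⟩ | ⟨n, hn⟩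
  · exact ⟨n, Or.inl (rho_injective (by rw [map_mul, map_mul, map_inv, hn, h2]))⟩
  · refine ⟨n, Or.inr (rho_injective ?_)⟩
    rw [map_mul, map_mul, map_inv, hn, hα]
    calc rho g = b * c⁻¹ * (tau * tau) * rho a * (tau * tau)⁻¹ * (b * c⁻¹)⁻¹ := by
          rw [tau_sq, inv_one, mul_one, mul_one, h2]
      _ = _ := by group

variable {X : Type} [Group X] [Fintype X] (M : Md X)

theorem sum_fib [Fintype Spor.Fi22] (F : Spor.Fi22 → ℂ) : ∑ x, F (M.π x) = 3 * ∑ g, F g := by
  classical
  rw [← Finset.sum_fiberwise (s := Finset.univ) (g := M.π), Finset.mul_sum]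
  refine Finset.sum_congr rfl fun g _ => ?_
  rw [Finset.sum_congr rfl (g := fun _ => F g) fun x hx => by rw [(Finset.mem_filter.1 hx).2], Finset.sum_const,
    MonoidHom.card_fiber_eq_of_mem_range M.π (M.surj g) (M.surj 1), nsmul_eq_mul, ← Nat.cast_ofNat, ← M.card,
    Nat.card_eq_fintype_card, Fintype.card_subtype]
  exact congrArg (fun s : Finset X => (s.card : ℂ) * F g) (Finset.filter_congr fun x _ => MonoidHom.mem_ker.symm)

theorem sum_one {t : ℕ} (ht : t < 59) (c : ℂ) : ∑ x, (if ty (M.π x) = t then c else 0) = 3 * dat.cnt t * c := by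
  have h1 := congrArg (fun r : ℝ => (r : ℂ) * c) (sum_ind M ht 1)
  simp only [Complex.ofReal_sum, apply_ite Complex.ofReal, Finset.sum_mul, ite_mul, Complex.ofReal_one,
    Complex.ofReal_zero, one_mul, zero_mul] at h1
  rw [h1]
  push_cast
  ring

omit [Fintype X] in
theorem pi_z (x : X) : M.π (M.z * x) = M.π x := by
  rw [map_mul, show M.π M.z = 1 from (M.ker ▸ Subgroup.mem_zpowers M.z : M.z ∈ M.π.ker), one_mul]

/-- **the mean value on a type** -/
theorem avg {α : MulAut Spor.Fi22} (h1 : ∀ g, ty (α g) = ty g) (h2 : ∀ g, α (α g) = g)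
    (h3 : ∀ g a, ty g = ty a → ∃ n, g = n * a * n⁻¹ ∨ g = n * α a * n⁻¹) {H : X → ℂ} (hz : ∀ x, H (M.z * x) = H x)
    (hc : ∀ c x, H (c * x * c⁻¹) = H x) {a b : X} (h : M.π b = α (M.π a)) :
    2 * ∑ x, (if ty (M.π x) = ty (M.π a) then H x else 0) = 3 * dat.cnt (ty (M.π a)) * (H a + H b) := by
  have := fin22
  have := Fintype.ofFinite Spor.Fi22
  obtain ⟨F, hF⟩ : ∃ F : Spor.Fi22 → ℂ, ∀ x, H x = F (M.π x) := ⟨fun g => H (Function.surjInv M.surj g), fun x => by
    obtain ⟨j, hj⟩ := exists_om M (Function.surjInv_eq M.surj (M.π x))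
    simp only [hj, om_val M (w := 1) (Ψ := H) fun x => by rw [hz, one_mul], one_pow, one_mul]⟩
  have h4 : ∀ n g, F (n * g * n⁻¹) = F g := fun n g => by
    obtain ⟨n, rfl⟩ := M.surj n
    obtain ⟨g, rfl⟩ := M.surj g
    rw [← map_inv, ← map_mul, ← map_mul, ← hF, ← hF, hc]
  have h5 := Equiv.sum_comp α.toEquiv fun g => if ty g = ty (M.π a) then F g else 0
  rw [← sum_one M (ty_lt _), sum_fib M fun g => if ty g = ty (M.π a) then H a + H b else 0]
  simp only [hF, h, sum_fib M fun g => if ty g = ty (M.π a) then F g else 0]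
  rw [mul_left_comm, two_mul]
  nth_rewrite 2 [← h5]
  rw [← Finset.sum_add_distrib]
  refine congrArg _ (Finset.sum_congr rfl fun g _ => ?_)
  change _ + (if ty (α g) = _ then F (α g) else 0) = _
  rw [h1]
  split_ifs with e
  · obtain ⟨n, rfl | rfl⟩ := h3 _ _ e
    · rw [map_mul, map_mul, map_inv α, h4, h4]
    · rw [map_mul, map_mul, map_inv α, h4, h4, h2, add_comm]
  · exact add_zero 0

variable {B : GL (Fin 54) (ZMod 2) → ℂ} {w : ℂ} {Ψ ψ : X → ℂ}

omit [Fintype X] in
theorem pw_z (x : X) : (M.z * x) ^ 160161 = x ^ 160161 := by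
  rw [om_pow', show 160161 = 3 * 53387 from rfl, pow_mul M.z, M.cube, one_pow, one_mul]

omit [Fintype X] in
theorem hh_z (hw : w ^ 3 = 1) (hz : ∀ x, Ψ (M.z * x) = w * Ψ x) (x : X) : hh M B w Ψ (M.z * x) = hh M B w Ψ x := by
  rw [hh, hh, pi_z, pw_z, hz, ← be_om M hw x, mul_comm w, mul_assoc]

omit [Fintype X] in
theorem hh_c (hB : Lift B) (hc : ∀ c x, Ψ (c * x * c⁻¹) = Ψ x) (c x : X) :
    hh M B w Ψ (c * x * c⁻¹) = hh M B w Ψ x := by
  rw [hh, hh, conj_pow, hc, hc, be_conj M hB, map_mul, map_mul, map_inv, ← td_ty, td.conj, td_ty]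

omit [Fintype X] in
theorem be_sq (hB : Lift B) (hw : 1 + w + w ^ 2 = 0) (y : X) : be M B w (y ^ 2) = conj (be M B w y) := by
  have h1 : ∀ x, conj (B (M.ρ x)) = B (M.ρ x) := fun x => by
    have h1 := lift_inv M hB x
    obtain ⟨a, b, ha, hb, rfl⟩ := hB.gen
    simpa only [isCharacter_apply_inv ha, isCharacter_apply_inv hb, _root_.Pi.sub_apply, _root_.map_sub] using h1
  have h2 : ∀ x, B (M.ρ (x ^ 2)) = B (M.ρ x) := fun x => by rw [map_pow, hB.sq]
  have h3 : M.z * (M.z * y ^ 2) = (M.z * y) ^ 2 := by rw [om_pow', pow_two M.z, mul_assoc]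
  have h4 : M.z * y ^ 2 = (M.z * (M.z * y)) ^ 2 := by rw [om_pow', ← h3, pow_two M.z, mul_assoc, om_three]
  have h5 := congrArg conj hw
  simp only [map_add, map_pow, map_one, map_zero] at h5
  have h6 : conj w = -1 - w :=
    mul_left_cancel₀ (sub_ne_zero.2 (conj_ne (ω := w) (by linear_combination hw))) (by linear_combination h5 - hw)
  rw [be, be, h3, h4, h2, h2, h2]
  simp only [map_div₀, map_add, map_mul (starRingEnd ℂ), map_pow (starRingEnd ℂ), h1, h6, map_ofNat]
  linear_combination (B (M.ρ (M.z * y)) - B (M.ρ (M.z * (M.z * y)))) / 3 * hw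

/-- **the normal lift** -/
theorem nrm (hB : Lift B) (hw : 1 + w + w ^ 2 = 0) (x : X) (h1 : dat.pwf (ty (M.π x)) 16 = 7)
    (h2 : ∀ k < 48, if 3 ∣ dat.ord (dat.pwf (ty (M.π x)) k) then k % 3 ≠ 0 ∧ nth bb (dat.pwf (ty (M.π x)) k) = 9
      else k % 3 = 0) : ∃ a : X, M.π a = M.π x ∧ a ^ 48 = 1 ∧ ∀ k < 48, hh M B w Ψ (a ^ k) = Ψ (a ^ k) := by
  have hw3 : w ^ 3 = 1 := by linear_combination (w - 1) * hw
  have h3 : ∀ y, be M B w (y ^ 16) = be M B w y := fun y => by
    rw [show 16 = 4 * 4 from rfl, pow_mul, be_four M hB, be_four M hB]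
  have h4 : ∀ y k, ty (M.π (y ^ k)) = dat.pwf (ty (M.π y)) k := fun y k => by
    rw [map_pow]
    exact td.pow _ _
  obtain ⟨j, hj⟩ := (be_val M hB hw (x ^ 16) (by rw [h4, h1]; decide)).1
  rw [h3, h4, h1, ← be_om_pow M hw3 x (2 * j), ← mul_assoc, ← pow_add, show j + 2 * j = 3 * j by ring, pow_mul, hw3,
    one_pow, one_mul, ← h3, show nth bb 7 = 9 from rfl, Int.cast_ofNat] at hj
  have h5 : M.π (M.z ^ (2 * j) * x) = M.π x := by
    rw [map_mul, map_pow, ← mul_one M.z, pi_z, map_one, one_pow, one_mul]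
  generalize M.z ^ (2 * j) * x = a at hj h5
  rw [← h5] at h1 h2
  obtain ⟨i, hi⟩ := exists_om M ((pow_ord M (a ^ 16) (m := 3) (by rw [h4, h1]; decide)).trans (map_one M.π).symm)
  have h6 := be_om_pow M (B := B) hw3 (a ^ 16) i
  rw [mul_one] at hi
  rw [← hi, ← pow_succ, be_four M hB, hj] at h6
  have h7 : (a ^ 16) ^ 3 = 1 := by
    obtain ⟨q, rfl | rfl | rfl⟩ : ∃ q, i = 3 * q ∨ i = 3 * q + 1 ∨ i = 3 * q + 2 := ⟨i / 3, by omega⟩
    · rw [hi, pow_mul, M.cube, one_pow]
    · rw [pow_add, pow_mul, hw3, one_pow] at h6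
      exact absurd (show (3 : ℂ) = 0 by linear_combination hw - (w + 2) / 9 * h6) three_ne_zero
    · rw [pow_add, pow_mul, hw3, one_pow] at h6
      exact absurd (show (3 : ℂ) = 0 by linear_combination (2 - w) * hw + (w - 1) / 9 * h6) three_ne_zero
  refine ⟨a, h5, by rw [← h7, ← pow_mul], fun k hk => ?_⟩
  have h8 := h2 k hk
  rw [hh, h4]
  split_ifs at h8 ⊢
  · rw [h8.2, ← h3, ← pow_mul, mul_comm k, pow_mul, pow_eq_pow_mod k h7]
    rcases (by omega : k % 3 = 1 ∨ k % 3 = 2) with h | h <;> rw [h]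
    · rw [pow_one, hj, Int.cast_ofNat, mul_div_cancel_right₀ _ (by norm_num)]
    · rw [be_sq M hB hw, hj, map_ofNat, Int.cast_ofNat, mul_div_cancel_right₀ _ (by norm_num)]
  · rw [← pow_mul, show k * 160161 = 16 * 3 * (10010 * (k / 3)) + k by omega, pow_add, pow_mul, pow_mul a, h7, one_pow,
      one_mul]

omit [Fintype X] in
theorem cyc_sum (hψ : IsCharacter X ψ) {a : X} (h : a ^ 48 = 1) : ∃ n : ℤ, ∑ k ∈ range 48, ψ (a ^ k) = 48 * n := by
  obtain ⟨n, hn⟩ := sum_int (isGeneralizedCharacter_comp (MonoidHom.mk' (fun k : Multiplicative (ZMod 48) =>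
    a ^ k.toAdd.val) fun k l => by rw [toAdd_mul, ZMod.val_add, ← pow_eq_pow_mod _ h, pow_add])
      (isGeneralizedCharacter_of_isCharacter hψ))
  rw [← Equiv.sum_comp Multiplicative.ofAdd, Nat.card_eq_fintype_card, Fintype.card_multiplicative, ZMod.card] at hn
  exact ⟨n, (Finset.sum_range _).trans hn⟩

theorem pair_I (hB : Lift B) (hw : 1 + w + w ^ 2 = 0) (hψ : IsCharacter X ψ) (hz : ∀ x, ψ (M.z * x) = w * ψ x) :
    ∀ p ∈ inds, ∃ n : ℤ, ∑ x, hh M B w (fun x => ψ x + ψ x) x * nth p.2 (ty (M.π x)) = 2 * 3 * dat.N * n := by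
  intro p hp
  obtain ⟨h1, h2, h3, h4⟩ := inds_chk p hp
  obtain ⟨α, a1, a2, a3⟩ := exists_al
  obtain ⟨x, hx⟩ := M.surj (rp ((p.1 + 58) % 59))
  have h5 : ty (M.π x) = p.1 := (_root_.Cfsg.Agent.TAB.F22.ty_iff h1).2 (hx ▸ fam_rp (Nat.mod_lt _ (by decide)))
  obtain ⟨y, hy⟩ := M.surj (α (M.π x))
  have h6 : ty (M.π y) = p.1 := by rw [hy, a1, h5]
  obtain ⟨a, b1, b2, b3⟩ := nrm M (Ψ := fun x => ψ x + ψ x) hB hw x (h5 ▸ h2) fun k hk => h5 ▸ (h3 k hk).2
  obtain ⟨b, c1, c2, c3⟩ := nrm M (Ψ := fun x => ψ x + ψ x) hB hw y (h6 ▸ h2) fun k hk => h6 ▸ (h3 k hk).2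
  obtain ⟨n, hn⟩ := cyc_sum hψ b2
  obtain ⟨m, hm⟩ := cyc_sum hψ c2
  have h7 := fun k => avg M a1 a2 a3 (H := hh M B w fun x => ψ x + ψ x) (hh_z M (by linear_combination (w - 1) * hw)
    fun x => by rw [hz, mul_add]) (hh_c M hB fun c x => by rw [isCharacter_isClassFunction hψ]) (a := a ^ k) (b := b ^ k)
      (by rw [map_pow, map_pow, map_pow, c1, b1, hy])
  have h8 : ∀ k, ty (M.π (a ^ k)) = dat.pwf p.1 k := fun k => by
    rw [map_pow, b1, ← h5]
    exact td.pow _ _
  have h9 : ∀ t < 59, (dat.cnt t : ℂ) ≠ 0 := fun t ht =>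
    Nat.cast_ne_zero.2 ((by decide +kernel : ∀ t < 59, dat.cnt t ≠ 0) t ht)
  simp only [h8] at h7
  generalize hh M B w (fun x => ψ x + ψ x) = H at b3 c3 h7
  have h10 : ∀ x, H x * nth p.2 (ty (M.π x)) = ∑ k ∈ range 48, dat.N / (48 * dat.cnt (dat.pwf p.1 k)) *
      (2 * if ty (M.π x) = dat.pwf p.1 k then H x else 0) := fun x => by
    have h10 := congrArg (Int.cast : ℤ → ℂ) (h4 _ (ty_lt (M.π x)))
    have h11 := h9 _ (ty_lt (M.π x))
    push_cast at h10
    rw [← mul_div_cancel_right₀ (nth p.2 (ty (M.π x)) : ℂ) (mul_ne_zero (by norm_num : (48 : ℂ) ≠ 0) h11), ← mul_assoc,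
      h10, Finset.sum_div, Finset.mul_sum]
    refine Finset.sum_congr rfl fun k _ => ?_
    split_ifs with e
    · rw [← e]
      ring
    · simp
  refine ⟨n + m, ?_⟩
  simp only [h10]
  rw [Finset.sum_comm, Finset.sum_congr rfl (g := fun k => dat.N / 8 * (ψ (a ^ k) + ψ (b ^ k))) fun k hk => ?_,
    ← Finset.mul_sum, Finset.sum_add_distrib, hn, hm]
  · push_cast
    ring
  · have h11 := h9 _ (h3 k (mem_range.1 hk)).1
    rw [← Finset.mul_sum, ← Finset.mul_sum, h7, b3 k (mem_range.1 hk), c3 k (mem_range.1 hk)]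
    field_simp
    ring

theorem int_lin {ι : Type} [Fintype ι] {t : ι → ℕ} {h : ι → ℝ} {K : ℝ} (r : List ℤ) {vs : List (List ℤ)}
    (H : ∀ v ∈ vs, ∃ a : ℤ, ∑ x, h x * nth v (t x) = K * a) : ∃ a : ℤ, ∑ x, h x * nth (lin r vs) (t x) = K * a := by
  obtain ⟨as, h1⟩ : ∃ as, List.Forall₂ (fun v (a : ℤ) => ∑ x, h x * nth v (t x) = K * a) vs as := by
    induction vs with
    | nil => exact ⟨[], .nil⟩
    | cons v vs ih =>
      obtain ⟨a, h1⟩ := H v List.mem_cons_self
      obtain ⟨as, h2⟩ := ih fun u hu => H u (List.mem_cons_of_mem _ hu)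
      exact ⟨a :: as, .cons h1 h2⟩
  exact ⟨_, pair_lin r h1⟩

theorem re_sum {H : X → ℂ} {v : List ℤ} {a : ℤ} (h : ∑ x, H x * nth v (ty (M.π x)) = 2 * 3 * dat.N * a) :
    ∑ x, (H x).re * nth v (ty (M.π x)) = 2 * 3 * dat.N * a := by
  have h4 := congrArg Complex.re (h.trans (show _ = ((2 * 3 * dat.N * a : ℝ) : ℂ) by push_cast; rfl))
  rw [Complex.re_sum, Complex.ofReal_re] at h4
  simpa only [Complex.mul_re, Complex.intCast_re, Complex.intCast_im, mul_zero, sub_zero] using h4

/-- **the mean value on the elements of order `16`** -/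
theorem r_md (hψ : IsIrrCharacter X ψ) (hw : 1 + w + w ^ 2 = 0) (hz : ∀ x, ψ (M.z * x) = w * ψ x) :
    ∃ r : ℤ, ∑ x, ψ (x ^ 160161) * nth vR (ty (M.π x)) = Nat.card X * r ∧
      r * r = if Odd (charDegree ψ) then 1 else 0 := by
  obtain ⟨B, hB⟩ := exists_lift (n := 54) (by norm_num)
  have hc := isIrr_isCharacter hψ
  obtain ⟨a, ha⟩ := sum_int (isGeneralizedCharacter_mul (isGeneralizedCharacter_pow
    (isGeneralizedCharacter_of_isCharacter hc) 160161) (gen_pi M (virt_lin cP virt_rows)))
  obtain ⟨r, hr⟩ : ∃ r : ℤ, r = charDegree ψ - 2 * a := ⟨_, rfl⟩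
  have h1 : ∑ x, ψ (x ^ 160161) * nth vR (ty (M.π x)) = Nat.card X * r := by
    have h1 : ∀ x, ψ (x ^ 160161) * nth vR (ty (M.π x)) = (if ty (M.π x) = 0 then dat.N * charDegree ψ else 0 : ℂ) -
        2 * (ψ (x ^ 160161) * nth (lin cP (rowA ++ rowB)) (ty (M.π x))) := fun x => by
      have h1 := congrArg (Int.cast : ℤ → ℂ) (cP_chk _ (ty_lt (M.π x)))
      split_ifs at h1 ⊢ with h <;> push_cast at h1
      · have h3 : x ^ 160161 = 1 := by
          rw [show 160161 = 1 * 3 * 53387 from rfl, pow_mul, pow_ord' M x (by rw [h]; decide), one_pow]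
        rw [h3, apply_one hc]
        linear_combination charDegree ψ * h1
      · linear_combination ψ (x ^ 160161) * h1
    simp only [Pi.mul_apply] at ha
    simp only [h1, Finset.sum_sub_distrib, ← Finset.mul_sum, ha, sum_one M (show 0 < 59 by decide), hr, Cv.card_cov M,
      show dat.cnt 0 = 1 from rfl]
    push_cast
    ring
  refine ⟨r, h1, ?_⟩
  suffices h : r = -1 ∨ r = 0 ∨ r = 1 by
    simp only [Nat.odd_iff]
    split_ifs <;> rcases h with h | h | h <;> first | omega | (rw [h]; rfl)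
  have hz' : ∀ x, ψ (M.z * x) + ψ (M.z * x) = w * (ψ x + ψ x) := fun x => by rw [hz, mul_add]
  have h2 := Finset.sum_le_sum fun x (_ : x ∈ Finset.univ) => show (hh M B w (fun x => ψ x + ψ x) x).re ^ 2 ≤
      4 * Complex.normSq (ψ x) by
    have h2 := hh_le M (Ψ := fun x => ψ x + ψ x) hB hw hz' x
    rw [← two_mul, map_mul, Complex.normSq_ofNat, Complex.normSq_apply] at h2
    linarith [mul_self_nonneg (hh M B w (fun x => ψ x + ψ x) x).im]
  have h3 : ∑ x, Complex.normSq (ψ x) = 3 * dat.N := by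
    have h3 := (classInner_self_eq_ofReal ψ).symm.trans (classInner_irr_self hψ)
    rw [← Complex.ofReal_one, Complex.ofReal_inj, inv_mul_eq_one₀ (by exact_mod_cast Nat.card_pos.ne'), Cv.card_cov M] at h3
    exact_mod_cast h3.symm
  have h4 : ∑ x, (hh M B w (fun x => ψ x + ψ x) x).re * nth vR (ty (M.π x)) = 2 * 3 * dat.N * r := re_sum M (by
    rw [Cv.card_cov M] at h1
    push_cast at h1
    rw [mul_assoc, mul_assoc, ← mul_assoc 3, ← h1, Finset.mul_sum]
    refine Finset.sum_congr rfl fun x _ => ?_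
    rw [vR_chk _ (ty_lt _), hh]
    split_ifs with e1 e2
    · exact absurd (e2 ▸ e1) (by decide)
    · simp
    · ring
    · simp)
  have h5 : ∀ l ∈ mv, ∃ a : ℤ, ∑ x, (hh M B w (fun x => ψ x + ψ x) x).re * nth l.v (ty (M.π x)) =
      2 * 3 * dat.N * a := fun l hl => by
    obtain ⟨c, h5, rfl⟩ := List.mem_map.1 hl
    have h6 := allL_spec mc_chk c h5
    rw [frL_eq] at h6
    rw [← of_decide_eq_true h6]
    refine int_lin _ fun v hv => ?_
    rcases List.mem_append.1 hv with hv | hv <;> obtain ⟨p, hp, rfl⟩ := List.mem_map.1 hv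
    · exact pair_lv M hB hw hc Two.refl hz' p hp
    · exact (pair_I M hB hw hc hz p hp).imp fun _ => re_sum M
  rw [← Finset.mul_sum, h3] at h2
  generalize hh M B w (fun x => ψ x + ψ x) = H at h2 h4 h5
  have hN : (0 : ℝ) < dat.N := by exact_mod_cast (by decide +kernel : 0 < dat.N)
  have h6 : ∑ x, ((H x).re - r / 8 * nth vR (ty (M.π x))) ^ 2 = ∑ x, (H x).re ^ 2 - 3 / 4 * dat.N * r ^ 2 := by
    have h6 := sum_ip M vR vR
    rw [show ip dat vR vR = 16 * dat.N by decide +kernel] at h6
    have h7 : ∀ x, ((H x).re - r / 8 * nth vR (ty (M.π x))) ^ 2 = (H x).re ^ 2 - r / 4 * ((H x).re * nth vR (ty (M.π x))) +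
        r ^ 2 / 64 * (nth vR (ty (M.π x)) * nth vR (ty (M.π x))) := fun x => by ring
    simp only [h7, Finset.sum_add_distrib, Finset.sum_sub_distrib, ← Finset.mul_sum, h4, h6]
    push_cast
    ring
  have h7 : r ^ 2 ≤ 16 := by
    have h7 : 0 ≤ ∑ x, ((H x).re - r / 8 * nth vR (ty (M.π x))) ^ 2 := by (clear * -; positivity)
    exact_mod_cast le_of_mul_le_mul_left (show dat.N * (r : ℝ) ^ 2 ≤ dat.N * 16 by linarith only [h2, h6, h7]) hN
  by_contra h8
  have h9 : r ∈ [2, 3, 4, -2, -3, -4] := by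
    have h9 : r < 5 := by nlinarith only [h7]
    have h10 : -5 < r := by nlinarith only [h7]
    simp only [List.mem_cons, List.not_mem_nil, or_false]
    (clear * - h8 h9 h10; omega)
  obtain ⟨_, _, _, h10, -⟩ := bessel_dfs (h := fun x => (H x).re) (I := 0) (W := fun t => r / 8 * nth vR t)
    (by norm_num) le_rfl (sum_ip M) mv h5 mv_chk (dfs_chk r h9) (.cons h4 .nil) (fun u hu => by
      simp only [mul_assoc, ← Finset.mul_sum, sum_ip M, hu vR List.mem_cons_self, Int.cast_zero, mul_zero]) (by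
      have h10 : (((16 - r ^ 2).toNat : ℕ) : ℝ) = 16 - r ^ 2 := by
        exact_mod_cast Int.toNat_of_nonneg (sub_nonneg.2 h7)
      rw [h6, Nat.cast_mul, h10]
      push_cast
      linarith only [h2])
  cases h10

/-- the faithful part of the characteristic function of the elements of order `16` -/
noncomputable def ff (x : X) : ℤ := by
  classical
  exact if ty (M.π x) = 49 then if x ^ 160161 = x then 32 else -16 else 0

theorem tri (x : X) : ff M x + ff M (M.z * x) + ff M (M.z * (M.z * x)) = 0 ∧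
    ff M x * ff M x + ff M (M.z * x) * ff M (M.z * x) + ff M (M.z * (M.z * x)) * ff M (M.z * (M.z * x)) =
      (if ty (M.π x) = 49 then 1536 else 0) ∧
    ∀ (ψ : X → ℂ) (w : ℂ), 1 + w + w ^ 2 = 0 → (∀ x, ψ (M.z * x) = w * ψ x) → ff M x * ψ x +
      ff M (M.z * x) * ψ (M.z * x) + ff M (M.z * (M.z * x)) * ψ (M.z * (M.z * x)) =
        3 * (ψ (x ^ 160161) * nth vR (ty (M.π x))) := by
  rw [ff, ff, ff, pw_z M (M.z * x), pw_z, pi_z M (M.z * x), pi_z, vR_chk _ (ty_lt _)]
  by_cases h : ty (M.π x) = 49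
  swap
  · simp only [h, ↓ _root_.reduceIte, _root_.add_zero, _root_.MulZeroClass.mul_zero, _root_.Int.cast_zero, _root_.MulZeroClass.zero_mul, _root_.implies_true, _root_.and_self]
  have h1 : ∀ y, M.z * y ≠ y := fun y e => by
    have h1 := M.card
    rw [M.ker, mul_eq_right.1 e, Subgroup.zpowers_one_eq_bot, Subgroup.card_bot] at h1
    cases h1
  have h2 : M.z * (M.z * x) ≠ x := fun e => h1 x (by rw [← congrArg (M.z * ·) e, om_three])
  obtain ⟨j, hj⟩ := (reg_lift M x (by rw [h]; decide)).1
  rw [pow_eq_pow_mod j M.cube] at hj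
  rcases (by omega : j % 3 = 0 ∨ j % 3 = 1 ∨ j % 3 = 2) with e | e | e <;> rw [e] at hj
  · rw [pow_zero, one_mul] at hj
    simp only [h, hj, (h1 x).symm, h2.symm, if_true, if_false]
    refine ⟨rfl, rfl, fun ψ w hw hz => ?_⟩
    simp only [hz]
    push_cast
    linear_combination -16 * ψ x * hw
  · rw [pow_one] at hj
    simp only [h, hj, h1 x, (h1 (M.z * x)).symm, if_true, if_false]
    refine ⟨rfl, rfl, fun ψ w hw hz => ?_⟩
    simp only [hz]
    push_cast
    linear_combination -16 * ψ x * hw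
  · rw [pow_two, mul_assoc] at hj
    simp only [h, hj, h1 (M.z * x), h2, if_true, if_false]
    refine ⟨rfl, rfl, fun ψ w hw hz => ?_⟩
    simp only [hz]
    push_cast
    linear_combination -16 * ψ x * hw

theorem sum3 (F : X → ℂ) : 3 * ∑ x, F x = ∑ x, (F x + F (M.z * x) + F (M.z * (M.z * x))) := by
  have h1 : ∑ x, F (M.z * x) = _ := Equiv.sum_comp (Equiv.mulLeft M.z) F
  have h2 : ∑ x, F (M.z * (M.z * x)) = _ := Equiv.sum_comp (Equiv.mulLeft M.z) fun x => F (M.z * x)
  rw [Finset.sum_add_distrib, Finset.sum_add_distrib, h2, h1]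
  ring

theorem inner_ff (hψ : IsIrrCharacter X ψ) (hw : 1 + w + w ^ 2 = 0) (hz : ∀ x, ψ (M.z * x) = w * ψ x) :
    ∃ r : ℤ, classInner (fun x => (ff M x : ℂ)) (fun x => conj (ψ x)) = r ∧
      r * r = if Odd (charDegree ψ) then 1 else 0 := by
  refine (r_md M hψ hw hz).imp fun r => And.imp_left fun h => ?_
  have h1 := sum3 M fun x => ff M x * ψ x
  simp only [(tri M _).2.2 ψ w hw hz, ← Finset.mul_sum, h] at h1
  simp only [classInner_def, Complex.conj_conj, mul_left_cancel₀ three_ne_zero h1]
  exact inv_mul_cancel_left₀ card_ne_zero_complex _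

/-- **the count for the model** -/
theorem card_md {ω : ℂ} (hω : ω ^ 2 + ω + 1 = 0) : Nat.card {χ : X → ℂ // OI X χ ∧ χ M.z = ω * χ 1} = 16 := by
  classical
  have := finite_irr (G := X)
  have := Fintype.ofFinite (IrrCharacter X)
  have hz : M.z ∈ Subgroup.center X := Subgroup.mem_center_iff.2 fun g => (M.comm g).symm
  have hf : IsGeneralizedCharacter X fun x => (ff M x : ℂ) := by
    refine isGeneralizedCharacter_of_int (fun g c => ?_) fun χ hχ => ?_
    · simp only [ff, conj_pow, mul_left_inj, mul_right_inj, map_mul, map_inv, ← td_ty, td.conj]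
      congr
    obtain ⟨c, h1, h2, -⟩ := _root_.Cfsg.Agent.ODD.Red.exists_central hχ hz
    by_cases h3 : c = 1
    · exact ⟨0, (inner_faith (fun x => (tri M x).1) (h3 ▸ h1)).trans Int.cast_zero.symm⟩
    have h4 := congrArg conj (mul_left_cancel₀ (sub_ne_zero.2 h3)
      (show (c - 1) * (1 + c + c ^ 2) = (c - 1) * 0 by linear_combination h2 3 M.cube))
    simp only [map_add, map_pow, map_one, map_zero] at h4
    obtain ⟨r, h5, -⟩ := inner_ff M (bar ⟨χ, hχ⟩).2 h4 fun x => by simp only [bar, h1, map_mul]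
    exact ⟨r, by simpa only [bar, Complex.conj_conj] using h5⟩
  have h1 : ∀ χ : Fw M.z ω, H447.CTab.mu hf χ.1 * H447.CTab.mu hf χ.1 =
      if Odd (charDegree (χ.1 : X → ℂ)) then 1 else 0 := fun χ => by
    obtain ⟨c, h1, -⟩ := _root_.Cfsg.Agent.ODD.Red.exists_central χ.1.2 hz
    have h2 : c = ω := mul_right_cancel₀ (isIrr_apply_one_ne_zero χ.1.2) (by rw [← h1, mul_one, χ.2])
    obtain ⟨r, h3, h4⟩ := inner_ff M χ.1.2 (by rw [h2]; linear_combination hω) h1
    rw [← mu_bar, Int.cast_injective ((H447.CTab.inner_mu hf (bar χ.1)).symm.trans h3), h4]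
  have h2 := H447.CTab.inner_sum_mu hf hf
  rw [sum_split hz M.cube hω _ fun χ hc => by
    rw [Int.cast_injective ((H447.CTab.inner_mu hf χ).symm.trans
      ((inner_faith (fun x => (tri M x).1) hc).trans Int.cast_zero.symm)), zero_mul]] at h2
  have h3 := sum3 M fun x => (ff M x * ff M x : ℤ)
  simp only [← Int.cast_add, (tri M _).2.1] at h3
  simp only [apply_ite ((↑) : ℤ → ℂ), Int.cast_zero, sum_one M (show 49 < 59 by decide), Int.cast_mul] at h3
  simp only [mu_bar, h1, classInner_def, map_intCast, ← two_mul, ← Finset.mul_sum, Finset.sum_boole,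
    mul_left_cancel₀ three_ne_zero (h3.trans (mul_assoc _ _ _)), Cv.card_cov M] at h2
  rw [inv_mul_eq_iff_eq_mul₀ (by exact_mod_cast (by decide +kernel : 3 * dat.N ≠ 0))] at h2
  have h4 : dat.cnt 49 * 1536 = 3 * dat.N * (2 * #{χ : Fw M.z ω | Odd (charDegree (χ.1 : X → ℂ))}) := by
    exact_mod_cast h2
  rw [show dat.cnt 49 * 1536 = 3 * dat.N * (2 * 16) by decide +kernel] at h4
  rw [Nat.eq_of_mul_eq_mul_left two_pos (Nat.eq_of_mul_eq_mul_left (by decide +kernel) h4), ← Fintype.card_subtype,
    ← Nat.card_eq_fintype_card]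
  exact Nat.card_congr ⟨fun χ => ⟨⟨⟨χ.1, χ.2.1.1⟩, χ.2.2⟩, χ.2.1.2⟩, fun χ => ⟨χ.1.1.1, ⟨χ.1.1.2, χ.2⟩, χ.1.2⟩,
    fun _ => rfl, fun _ => rfl⟩

end Cfsg.Agent.MK.S7.X22

namespace Cfsg.Agent.MK.S7

open Cfsg Cfsg.Agent.H922.QS.FiThree Cfsg.Agent.H133.FibPce Cfsg.Agent.Characters.Core

/-- **the faithful characters of odd degree of `3.Fi22`** -/
theorem kk_cov22 (X : Type) [Group X] [Finite X] (φ : X →* Spor.Fi22) (h1 : Function.Surjective φ)
    (h2 : φ.ker = Subgroup.center X) (h3 : Nat.card (Subgroup.center X) = 3) (h4 : commutator X = ⊤) {l : X → ℂ}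
    (hl : Fa (Subgroup.center X) l) (h0 : l 1 = 1)
    (hm : ∀ a ∈ Subgroup.center X, ∀ b ∈ Subgroup.center X, l (a * b) = l a * l b) :
    kk ⊤ (Subgroup.center X) l = 16 := by
  have : Fact (Nat.Prime 3) := ⟨Nat.prime_three⟩
  have hφ : H51.Mult.PCE φ := ⟨h1, h2.le, h4⟩
  have := Fintype.ofFinite K3
  rcases dichotomy hφ pce3 (by rw [card_ker3]; exact Nat.prime_three) ((h2 ▸ h3).trans card_ker3.symm) with h | ⟨e, he⟩
  · have h5 := pce_fib hφ pce3 h
    have h6 := ODD.Cv.MB.of_cyc S2053.result _ h _ h5.surj h5.cen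
    rw [Nat.card_congr (kerFib φ pi3).toEquiv, Nat.card_prod, h2, h3, card_ker3] at h6
    exact absurd h6 (by decide)
  obtain ⟨z, hz0⟩ := e.surjective om3
  have hz : z ∈ Subgroup.center X := by
    rw [← h2, MonoidHom.mem_ker, ← he, hz0, ← MonoidHom.mem_ker, ker3]
    exact Subgroup.mem_zpowers _
  have hz1 : z ≠ 1 := fun h => by
    have h5 := card_ker3
    rw [ker3, ← hz0, h, map_one, Subgroup.zpowers_one_eq_bot, Subgroup.card_bot] at h5
    cases h5
  have h5 : ∀ n : ℕ, l (z ^ n) = l z ^ n := fun n => by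
    induction n with
    | zero => rw [pow_zero, pow_zero, h0]
    | succ n ih => rw [pow_succ, hm _ (pow_mem hz n) _ hz, ih, pow_succ]
  have h6 : z ^ 3 = 1 := congrArg Subtype.val (h3 ▸ pow_card_eq_one' (x := (⟨z, hz⟩ : Subgroup.center X)))
  have h7 : l z ^ 2 + l z + 1 = 0 := mul_left_cancel₀ (sub_ne_zero.2 (mt (hl z hz) hz1)) (by
    have h7 := h5 3
    rw [h6, h0] at h7
    linear_combination -h7)
  rw [kk_top, ← X22.card_md TAB.F22.Cv.mdK h7]
  refine T.card_congr e fun χ hχ => ⟨fun h => by simpa only [hz0, map_one] using! h z hz, fun h w hw => ?_⟩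
  obtain ⟨c, hc, -⟩ := ODD.Red.exists_central hχ.1 (z := om3) (Subgroup.mem_center_iff.2 fun g => (om3_comm g).symm)
  obtain rfl : c = l z := mul_right_cancel₀ (isIrr_apply_one_ne_zero hχ.1) (by rw [← hc, mul_one]; exact h)
  obtain ⟨n, h8⟩ := mem_powers_of_prime_card h3 (g := (⟨z, hz⟩ : Subgroup.center X)) (g' := ⟨w, hw⟩)
    fun e => hz1 (congrArg Subtype.val e)
  obtain rfl : z ^ n = w := congrArg Subtype.val h8
  simp only [h5, map_pow, hz0, map_one]
  clear h8 hw
  induction n with
  | zero => rw [pow_zero, pow_zero, one_mul]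
  | succ n ih => rw [pow_succ', hc, ih, pow_succ', mul_assoc]

end Cfsg.Agent.MK.S7

private theorem dce_ff5c6614f4bc : _root_.True := by
  try have : _root_.True := by simp only [_root_.Cfsg.Agent.MK.S7.X22.ff.eq_1]
  exact _root_.True.intro
end
end
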